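import Groth.Prelude.Def_Fitting
import Mathlib.RingTheory.Kaehler.Basic
import Mathlib.Algebra.MvPolynomial.PDeriv
import Mathlib.LinearAlgebra.Matrix.SchurComplement

/-!
# The zeroth Fitting ideal of the differentials of a presented algebra
-/

noncomputable section

universe u

open MvPolynomial

namespace Groth.Agent.Tate

variable {A B : Type u} [CommRing A] [CommRing B] [Algebra A B] {n : ℕ}
  (φ₀ : MvPolynomial (Fin n) A →ₐ[A] B) (hφ₀ : Function.Surjective φ₀)

/-- The gradient, evaluated in the algebra. -/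
def grad (p : MvPolynomial (Fin n) A) : Fin n → B := fun j => φ₀ (pderiv j p)

/-- The Jacobian determinants of relations. -/
def jacDets : Set B := {d | ∃ f : Fin n → MvPolynomial (Fin n) A, (∀ i, φ₀ (f i) = 0) ∧
  d = (Matrix.of fun i j => φ₀ (pderiv j (f i))).det}

lemma grad_mul (p q : MvPolynomial (Fin n) A) (hq : φ₀ q = 0) : grad φ₀ (p * q) = φ₀ p • grad φ₀ q := by
  funext j
  simp [grad, hq, Derivation.leibniz]

include hφ₀ in
/-- Gradients of relations form a submodule. -/
lemma exists_grad_smul (b : B) {p : MvPolynomial (Fin n) A} (hp : φ₀ p = 0) :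
    ∃ q, φ₀ q = 0 ∧ grad φ₀ q = b • grad φ₀ p := by
  obtain ⟨c, rfl⟩ := hφ₀ b
  exact ⟨c * p, by rw [map_mul, hp, mul_zero], grad_mul φ₀ c p hp⟩

/-- The submodule of gradients of relations. -/
def relSpace : Submodule B (Fin n → B) where
  carrier := {u | ∃ p, φ₀ p = 0 ∧ grad φ₀ p = u}
  add_mem' := by
    rintro _ _ ⟨p, hp, rfl⟩ ⟨q, hq, rfl⟩
    exact ⟨p + q, by rw [map_add, hp, hq, add_zero], funext fun j => by simp [grad]⟩
  zero_mem' := ⟨0, map_zero _, funext fun j => by simp [grad]⟩
  smul_mem' b u := by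
    rintro ⟨p, hp, rfl⟩
    exact exists_grad_smul φ₀ hφ₀ b hp

lemma D_eq_sum (p : MvPolynomial (Fin n) A) :
    KaehlerDifferential.D A B (φ₀ p) = ∑ j, grad φ₀ p j • KaehlerDifferential.D A B (φ₀ (X j)) := by
  have hC : ∀ a, φ₀ (C a) = algebraMap A B a := fun a => by rw [← algebraMap_eq, AlgHom.commutes]
  induction p using MvPolynomial.induction_on with
  | C a => simp [grad, hC]
  | add p q hp hq =>
    rw [map_add, map_add, hp, hq, ← Finset.sum_add_distrib]
    exact Finset.sum_congr rfl fun j _ => by simp [grad, add_smul]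
  | mul_X p i hp =>
    rw [map_mul, Derivation.leibniz, hp, Finset.smul_sum]
    have h : ∀ j, grad φ₀ (p * X i) j = φ₀ (X i) * grad φ₀ p j + (if i = j then φ₀ p else 0) := fun j => by
      by_cases h : i = j <;> simp [grad, Derivation.leibniz, h, mul_comm, add_comm]
    simp only [h, add_smul, Finset.sum_add_distrib, mul_smul, ite_smul, zero_smul, Finset.sum_ite_eq,
      Finset.mem_univ, if_true]
    abel

include hφ₀ in
lemma span_D_eq_top : Submodule.span B (Set.range fun j => KaehlerDifferential.D A B (φ₀ (X j))) = ⊤ := by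
  refine top_le_iff.1 ((KaehlerDifferential.span_range_derivation A B).ge.trans (Submodule.span_le.2 ?_))
  rintro _ ⟨b, rfl⟩
  obtain ⟨p, rfl⟩ := hφ₀ b
  rw [SetLike.mem_coe, D_eq_sum]
  exact Submodule.sum_mem _ fun j _ => Submodule.smul_mem _ _ (Submodule.subset_span ⟨j, rfl⟩)

/-- The universal derivation modulo gradients of relations. -/
def gradDer : Derivation A B ((Fin n → B) ⧸ relSpace φ₀ hφ₀) :=
  Derivation.mk'
    { toFun := fun b => Submodule.Quotient.mk (grad φ₀ (Function.surjInv hφ₀ b))
      map_add' := fun a b => by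
        rw [← Submodule.Quotient.mk_add, Submodule.Quotient.eq]
        refine ⟨Function.surjInv hφ₀ (a + b) - (Function.surjInv hφ₀ a + Function.surjInv hφ₀ b), ?_, ?_⟩
        · simp [Function.surjInv_eq hφ₀]
        · funext j; simp [grad]
      map_smul' := fun c a => by
        rw [RingHom.id_apply, ← Submodule.Quotient.mk_smul, Submodule.Quotient.eq]
        refine ⟨Function.surjInv hφ₀ (c • a) - c • Function.surjInv hφ₀ a, ?_, ?_⟩
        · simp [Function.surjInv_eq hφ₀]
        · funext j; simp [grad] }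
    fun a b => by
      simp only [LinearMap.coe_mk, AddHom.coe_mk]
      rw [← Submodule.Quotient.mk_smul, ← Submodule.Quotient.mk_smul, ← Submodule.Quotient.mk_add,
        Submodule.Quotient.eq]
      refine ⟨Function.surjInv hφ₀ (a * b) - Function.surjInv hφ₀ a * Function.surjInv hφ₀ b, ?_, ?_⟩
      · simp [Function.surjInv_eq hφ₀]
      · funext j; simp [grad, Derivation.leibniz, Function.surjInv_eq hφ₀]

lemma gradDer_apply (p : MvPolynomial (Fin n) A) :
    gradDer φ₀ hφ₀ (φ₀ p) = Submodule.Quotient.mk (grad φ₀ p) := by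
  refine (Submodule.Quotient.eq _).2 ⟨Function.surjInv hφ₀ (φ₀ p) - p, ?_, ?_⟩
  · simp [Function.surjInv_eq hφ₀]
  · funext j; simp [grad]

/-- Relations between the `dx_j` are gradients of relations. -/
theorem mem_relSpace_iff (u : Fin n → B) :
    u ∈ relSpace φ₀ hφ₀ ↔ ∑ j, u j • KaehlerDifferential.D A B (φ₀ (X j)) = 0 := by
  classical
  constructor
  · rintro ⟨p, hp, rfl⟩
    rw [← D_eq_sum, hp, map_zero]
  · intro h
    have h2 := congrArg (gradDer φ₀ hφ₀).liftKaehlerDifferential h
    simp only [map_sum, map_smul, map_zero, Derivation.liftKaehlerDifferential_comp_D, gradDer_apply] at h2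
    have hu : u = ∑ j, u j • grad φ₀ (X j) := by
      funext i
      simp [grad, Pi.single_apply, apply_ite φ₀]
    simp only [← Submodule.mkQ_apply, ← map_smul, ← map_sum] at h2
    rw [← hu, Submodule.mkQ_apply, Submodule.Quotient.mk_eq_zero] at h2
    exact h2

include hφ₀ in
/-- A square matrix whose first `n` columns consist of relations has determinant in the Jacobian ideal. -/
theorem det_mem : ∀ (N : ℕ) (h : n ≤ N) (M : Matrix (Fin N) (Fin N) B),
    (∀ i, (fun j => M i (Fin.castLE h j)) ∈ relSpace φ₀ hφ₀) → M.det ∈ Ideal.span (jacDets φ₀) := by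
  intro N
  induction N with
  | zero =>
    intro h M hM
    obtain rfl : n = 0 := by omega
    exact Ideal.subset_span ⟨finZeroElim, finZeroElim, by rw [Matrix.det_fin_zero, Matrix.det_fin_zero]⟩
  | succ N ih =>
    intro h M hM
    rcases h.eq_or_lt with heq | hlt
    · subst heq
      choose p hp hpM using hM
      refine Ideal.subset_span ⟨p, hp, congrArg Matrix.det ?_⟩
      ext i j
      exact (congrFun (hpM i) j).symm
    · rw [Matrix.det_succ_column M (Fin.last N)]
      refine Ideal.sum_mem _ fun i _ => Ideal.mul_mem_left _ _ (ih (by omega) _ fun k => ?_)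
      convert hM (i.succAbove k) using 1
      funext j
      rw [Matrix.submatrix_apply, Fin.succAbove_last]
      rfl

include hφ₀ in
/-- `Fit₀(Ω)` is generated by the Jacobian determinants of relations. -/
theorem fitting_zero_eq : Fitt.ideal B (KaehlerDifferential A B) 0 = Ideal.span (jacDets φ₀) := by
  classical
  let d : Fin n → KaehlerDifferential A B := fun j => KaehlerDifferential.D A B (φ₀ (X j))
  apply le_antisymm
  · refine Ideal.span_le.2 ?_
    rintro _ ⟨m, y, R, hy, hR, rfl⟩
    have hy' : ∀ k, ∃ c : Fin n → B, ∑ j, c j • d j = y k := fun k =>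
      (Submodule.mem_span_range_iff_exists_fun B).1 ((span_D_eq_top φ₀ hφ₀).ge trivial)
    have hd' : ∀ j, ∃ e : Fin m → B, ∑ k, e k • y k = d j := fun j =>
      (Submodule.mem_span_range_iff_exists_fun B).1 (hy.ge trivial)
    choose C hC using hy'
    choose E hE using hd'
    let Cm : Matrix (Fin m) (Fin n) B := Matrix.of C
    let Em : Matrix (Fin n) (Fin m) B := Matrix.of E
    let M := Matrix.fromBlocks (1 - Em * Cm) (-Em) (R * Cm) R
    have hdet : M.det = R.det := by
      have h : M = Matrix.fromBlocks 1 (-Em) 0 R * Matrix.fromBlocks 1 0 Cm 1 := by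
        rw [Matrix.fromBlocks_multiply]
        simp [M, sub_eq_add_neg]
      rw [h, Matrix.det_mul, Matrix.det_fromBlocks_zero₂₁, Matrix.det_fromBlocks_zero₁₂]
      simp
    have hrow : ∀ (i : Fin n ⊕ Fin m), (fun j => M i (Sum.inl j)) ∈ relSpace φ₀ hφ₀ := by
      have hcomp : ∀ (v : Fin m → B), ∑ j, (∑ k, v k * Cm k j) • d j = ∑ k, v k • y k := fun v => by
        simp only [Finset.sum_smul, mul_smul]
        rw [Finset.sum_comm]
        exact Finset.sum_congr rfl fun k _ => by rw [← Finset.smul_sum]; exact congrArg _ (hC k)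
      intro i
      rw [mem_relSpace_iff]
      rcases i with i | i
      · have h1 : ∑ j, (1 : Matrix (Fin n) (Fin n) B) i j • d j = d i := by simp [Matrix.one_apply]
        change ∑ j, ((1 : Matrix (Fin n) (Fin n) B) i j - ∑ k, Em i k * Cm k j) • d j = 0
        simp only [sub_smul, Finset.sum_sub_distrib, h1, hcomp]
        exact sub_eq_zero.2 (hE i).symm
      · change ∑ j, (∑ k, R i k * Cm k j) • d j = 0
        rw [hcomp]
        exact hR i (by omega)
    rw [SetLike.mem_coe, ← hdet, ← Matrix.det_submatrix_equiv_self finSumFinEquiv.symm]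
    refine det_mem φ₀ hφ₀ _ (Nat.le_add_right n m) _ fun i => ?_
    convert hrow (finSumFinEquiv.symm i) using 1
    funext j
    rw [Matrix.submatrix_apply]
    congr 1
    exact finSumFinEquiv_symm_apply_castAdd j
  · refine Ideal.span_le.2 ?_
    rintro _ ⟨f, hf, rfl⟩
    refine Ideal.subset_span ⟨n, d, _, span_D_eq_top φ₀ hφ₀, fun i _ => ?_, rfl⟩
    exact (mem_relSpace_iff φ₀ hφ₀ _).1 ⟨f i, hf i, rfl⟩

end Groth.Agent.Tate
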