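import Mathlib.RingTheory.TensorProduct.Maps
import Mathlib.RingTheory.Trace.Defs
import Mathlib.LinearAlgebra.Dual.Lemmas

/-!
# Elements of `B ⊗ B` killing the diagonal ideal, and the trace (Tate)
-/

noncomputable section

universe u v

open TensorProduct

namespace Groth.Agent.Tate

variable {A : Type u} {B : Type v} [CommRing A] [CommRing B] [Algebra A B]

/-- `u ⊗ v ↦ φ v • u`. -/
def applyRight (φ : B →ₗ[A] A) : B ⊗[A] B →ₗ[A] B :=
  (TensorProduct.rid A B).toLinearMap ∘ₗ LinearMap.lTensor B φ

@[simp] lemma applyRight_tmul (φ : B →ₗ[A] A) (u v : B) : applyRight φ (u ⊗ₜ v) = φ v • u := by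
  simp [applyRight]

variable {Δ : B ⊗[A] B} (hΔ : ∀ b : B, Δ * (b ⊗ₜ[A] 1) = Δ * (1 ⊗ₜ[A] b))

include hΔ in
/-- The trace of `θ_Δ(φ) y` is `φ(μ(Δ) y)`. -/
theorem trace_applyRight [Module.Finite A B] [Module.Free A B] (φ : B →ₗ[A] A) (y : B) :
    Algebra.trace A B (applyRight φ Δ * y) = φ (Algebra.TensorProduct.lmul' (S := B) A Δ * y) := by
  classical
  let e := Module.Free.chooseBasis A B
  have h1 : ∀ i, applyRight φ Δ * y * e i = applyRight φ (Δ * (1 ⊗ₜ[A] (y * e i))) := by
    intro i
    rw [← hΔ]
    generalize Δ = z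
    induction z using TensorProduct.induction_on with
    | zero => simp
    | tmul u v => simp [Algebra.smul_def, mul_assoc]
    | add a b ha hb => rw [map_add, add_mul, add_mul, ha, hb, add_mul, map_add]
  have h2 : ∀ z : B ⊗[A] B, ∑ i, e.repr (applyRight φ (z * (1 ⊗ₜ[A] (y * e i)))) i =
      φ (Algebra.TensorProduct.lmul' (S := B) A z * y) := by
    intro z
    induction z using TensorProduct.induction_on with
    | zero => simp
    | tmul u v =>
      simp only [Algebra.TensorProduct.tmul_mul_tmul, mul_one, applyRight_tmul, map_smul, Finsupp.smul_apply,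
        Algebra.TensorProduct.lmul'_apply_tmul, smul_eq_mul]
      conv_rhs => rw [show u * v * y = v * y * u by ring, ← e.sum_repr u, Finset.mul_sum, map_sum]
      refine Finset.sum_congr rfl fun i _ => ?_
      rw [mul_smul_comm, map_smul, smul_eq_mul, mul_assoc, mul_comm]
    | add a b ha hb =>
      simp only [add_mul, map_add, Finsupp.add_apply, Finset.sum_add_distrib, ha, hb]
  rw [Algebra.trace_eq_matrix_trace e, Matrix.trace, ← h2]
  refine Finset.sum_congr rfl fun i _ => ?_
  rw [Matrix.diag, Algebra.leftMulMatrix_eq_repr_mul, h1]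

include hΔ in
lemma applyRight_comp_mulLeft (φ : B →ₗ[A] A) (b : B) :
    applyRight (φ ∘ₗ LinearMap.mulLeft A b) Δ = b * applyRight φ Δ := by
  have h : applyRight (φ ∘ₗ LinearMap.mulLeft A b) Δ = applyRight φ (Δ * (1 ⊗ₜ[A] b)) := by
    generalize Δ = z
    induction z using TensorProduct.induction_on with
    | zero => simp
    | tmul u v => simp [mul_comm v]
    | add a b ha hb => rw [map_add, add_mul, map_add, ha, hb]
  rw [h, ← hΔ]
  clear h hΔ
  induction Δ using TensorProduct.induction_on with
  | zero => simp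
  | tmul u v => simp [mul_comm u]
  | add a b ha hb => rw [map_add, mul_add, add_mul, map_add, ha, hb]

include hΔ in
/-- `θ_Δ(Tr) = μ(Δ)`. -/
theorem applyRight_trace [Module.Finite A B] [Module.Free A B] :
    applyRight (Algebra.trace A B) Δ = Algebra.TensorProduct.lmul' (S := B) A Δ := by
  classical
  let e := Module.Free.chooseBasis A B
  have htr : Algebra.trace A B = ∑ i, e.coord i ∘ₗ LinearMap.mulLeft A (e i) := by
    ext v
    rw [Algebra.trace_eq_matrix_trace e, LinearMap.sum_apply, Matrix.trace]
    refine Finset.sum_congr rfl fun i _ => ?_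
    rw [Matrix.diag, Algebra.leftMulMatrix_eq_repr_mul, LinearMap.comp_apply, LinearMap.mulLeft_apply,
      Module.Basis.coord_apply, mul_comm]
  have h1 : applyRight (Algebra.trace A B) Δ = ∑ i, e i * applyRight (e.coord i) Δ := by
    simp only [← applyRight_comp_mulLeft hΔ]
    rw [htr]
    simp only [applyRight, LinearMap.comp_apply, ← LinearMap.coe_lTensorHom, map_sum, LinearMap.sum_apply]
  rw [h1]
  clear h1 hΔ
  induction Δ using TensorProduct.induction_on with
  | zero => simp
  | tmul u v =>
    conv_rhs => rw [Algebra.TensorProduct.lmul'_apply_tmul, ← e.sum_repr v, Finset.mul_sum]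
    refine Finset.sum_congr rfl fun i _ => ?_
    simp [mul_comm]
  | add a b ha hb => simp only [map_add, mul_add, Finset.sum_add_distrib, ha, hb]

/-- Reconstructing a tensor from its right contractions. -/
lemma eq_sum_applyRight {ι : Type*} [Fintype ι] (e : Module.Basis ι A B) (z : B ⊗[A] B) :
    z = ∑ i, applyRight (e.coord i) z ⊗ₜ[A] e i := by
  induction z using TensorProduct.induction_on with
  | zero => simp
  | tmul u v =>
    simp only [applyRight_tmul, smul_tmul, ← tmul_sum, Module.Basis.coord_apply, e.sum_repr]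
  | add a b ha hb =>
    conv_lhs => rw [ha, hb]
    simp only [map_add, add_tmul, Finset.sum_add_distrib]

end Groth.Agent.Tate
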