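import Groth.Agent.Tate.Local
import Groth.Agent.Tate.Trace
import Groth.Agent.Tate.Kaehler
import Groth.Prelude.Def_Disc

/-!
# The different of a finite free syntomic algebra
-/

noncomputable section

universe u

open IsLocalRing MvPolynomial TensorProduct

namespace Groth.Agent.Tate

variable {A B : Type u} [CommRing A] [CommRing B] [Algebra A B] {n : ℕ}
  (φ₀ : MvPolynomial (Fin n) A →ₐ[A] B) (hφ₀ : Function.Surjective φ₀)

/-- The images of the variables. -/
abbrev xval : Fin n → B := fun j => φ₀ (X j)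

lemma sub_eval_mem (q : MvPolynomial (Fin n) B) :
    q - C (aeval (xval φ₀) q) ∈ Ideal.span (Set.range fun j => X j - C (xval φ₀ j)) := by
  induction q using MvPolynomial.induction_on with
  | C b => simp
  | add p q hp hq =>
    rw [map_add, map_add, show p + q - (C (aeval (xval φ₀) p) + C (aeval (xval φ₀) q)) =
      (p - C (aeval (xval φ₀) p)) + (q - C (aeval (xval φ₀) q)) by ring]
    exact add_mem hp hq
  | mul_X p i hp =>
    rw [map_mul, map_mul, aeval_X, show p * X i - C (aeval (xval φ₀) p) * C (xval φ₀ i) =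
      (p - C (aeval (xval φ₀) p)) * X i + C (aeval (xval φ₀) p) * (X i - C (xval φ₀ i)) by ring]
    exact add_mem (Ideal.mul_mem_right _ _ hp) (Ideal.mul_mem_left _ _ (Ideal.subset_span ⟨i, rfl⟩))

lemma aeval_map_xval (p : MvPolynomial (Fin n) A) : aeval (xval φ₀) (map (algebraMap A B) p) = φ₀ p := by
  rw [aeval_map_algebraMap]
  exact AlgHom.congr_fun (algHom_ext (f := aeval (xval φ₀)) (g := φ₀) fun j => aeval_X _ j) p

/-- Relations vanish along the diagonal. -/
lemma exists_matrix (f : Fin n → MvPolynomial (Fin n) A) (hf : ∀ i, φ₀ (f i) = 0) :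
    ∃ c : Matrix (Fin n) (Fin n) (MvPolynomial (Fin n) B),
      ∀ i, map (algebraMap A B) (f i) = ∑ j, c i j * (X j - C (xval φ₀ j)) := by
  have h : ∀ i, ∃ c : Fin n → MvPolynomial (Fin n) B,
      ∑ j, c j * (X j - C (xval φ₀ j)) = map (algebraMap A B) (f i) := fun i => by
    refine Ideal.mem_span_range_iff_exists_fun.1 ?_
    have := sub_eval_mem φ₀ (map (algebraMap A B) (f i))
    rwa [aeval_map_xval, hf, map_zero, sub_zero] at this
  choose c hc using h
  exact ⟨Matrix.of c, fun i => (hc i).symm⟩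

/-- `X_j ↦ 1 ⊗ x_j`. -/
def psi : MvPolynomial (Fin n) B →ₐ[B] B ⊗[A] B := aeval fun j => (1 : B) ⊗ₜ[A] xval φ₀ j

lemma psi_C (b : B) : psi φ₀ (C b) = b ⊗ₜ[A] 1 := by simp [psi, Algebra.TensorProduct.algebraMap_apply]

lemma psi_map (p : MvPolynomial (Fin n) A) : psi φ₀ (map (algebraMap A B) p) = 1 ⊗ₜ[A] φ₀ p := by
  rw [psi, aeval_map_algebraMap]
  exact AlgHom.congr_fun (algHom_ext (f := aeval fun j => (1 : B) ⊗ₜ[A] xval φ₀ j)
    (g := Algebra.TensorProduct.includeRight.comp φ₀) fun j => by simp [xval]) p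

lemma lmul'_psi (q : MvPolynomial (Fin n) B) :
    Algebra.TensorProduct.lmul' (S := B) A (psi φ₀ q) = aeval (xval φ₀) q := by
  induction q using MvPolynomial.induction_on with
  | C b => simp [psi_C]
  | add p q hp hq => rw [map_add, map_add, hp, hq, map_add]
  | mul_X p i hp => rw [map_mul, map_mul, hp, map_mul, psi, aeval_X]; simp

variable (c : Matrix (Fin n) (Fin n) (MvPolynomial (Fin n) B)) (f : Fin n → MvPolynomial (Fin n) A)
  (hf : ∀ i, φ₀ (f i) = 0) (hc : ∀ i, map (algebraMap A B) (f i) = ∑ j, c i j * (X j - C (xval φ₀ j)))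

include hf hc hφ₀ in
theorem delta_mul (b : B) : psi φ₀ c.det * (b ⊗ₜ[A] 1) = psi φ₀ c.det * (1 ⊗ₜ[A] b) := by
  classical
  have hd : ∀ l, psi φ₀ c.det * psi φ₀ (X l - C (xval φ₀ l)) = 0 := by
    intro l
    have h0 : c.mulVec (fun j => X j - C (xval φ₀ j)) = fun i => map (algebraMap A B) (f i) :=
      funext fun i => (hc i).symm
    have h1 := congrArg (c.adjugate.mulVec) h0
    rw [Matrix.mulVec_mulVec, Matrix.adjugate_mul, Matrix.smul_mulVec, Matrix.one_mulVec] at h1
    have h2 := congrArg (psi φ₀) (congrFun h1 l)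
    rw [Pi.smul_apply, smul_eq_mul, map_mul] at h2
    rw [h2, Matrix.mulVec, dotProduct, map_sum]
    exact Finset.sum_eq_zero fun i _ => by rw [map_mul, psi_map, hf, tmul_zero, mul_zero]
  obtain ⟨p, rfl⟩ := hφ₀ b
  induction p using MvPolynomial.induction_on with
  | C a =>
    rw [← algebraMap_eq, AlgHom.commutes]
    congr 1
    exact Algebra.TensorProduct.algebraMap_apply' a
  | add p q hp hq => rw [map_add, add_tmul, tmul_add, mul_add, mul_add, hp, hq]
  | mul_X p i hp =>
    have hi : psi φ₀ c.det * (xval φ₀ i ⊗ₜ[A] 1) = psi φ₀ c.det * (1 ⊗ₜ[A] xval φ₀ i) := by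
      have := hd i
      rw [map_sub, psi_C, mul_sub, sub_eq_zero, psi, aeval_X] at this
      exact this.symm
    rw [map_mul, show (φ₀ p * φ₀ (X i)) ⊗ₜ[A] (1 : B) = (φ₀ p ⊗ₜ 1) * (xval φ₀ i ⊗ₜ 1) by simp [xval],
      show (1 : B) ⊗ₜ[A] (φ₀ p * φ₀ (X i)) = (1 ⊗ₜ φ₀ p) * (1 ⊗ₜ xval φ₀ i) by simp [xval],
      ← mul_assoc, hp, mul_right_comm, hi, mul_right_comm, mul_assoc]

include hc in
theorem lmul'_delta :
    Algebra.TensorProduct.lmul' (S := B) A (psi φ₀ c.det) =
      (Matrix.of fun i j => φ₀ (pderiv j (f i))).det := by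
  classical
  rw [lmul'_psi, AlgHom.map_det]
  congr 1
  ext i l
  have h := congrArg (fun q => aeval (xval φ₀) (pderiv l q)) (hc i)
  simp only [pderiv_map, aeval_map_xval, map_sum] at h
  rw [Matrix.of_apply, h]
  simp [Derivation.leibniz, Pi.single_apply, apply_ite (eval (xval φ₀))]

include hφ₀ in
/-- If the determinant survives in the fibre at `q`, some contraction of it avoids `q`. -/
theorem exists_applyRight_notMem [Module.Finite A B] [Module.Free A B] (q : Ideal B) [q.IsPrime]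
    (hdet : (c.map (map (algebraMap B q.ResidueField))).det ∉
      (RingHom.ker φ₀.toRingHom).map (map (algebraMap A q.ResidueField))) :
    ∃ τ : B →ₗ[A] A, applyRight τ (psi φ₀ c.det) ∉ q := by
  classical
  by_contra! hall
  let κ := q.ResidueField
  let 𝔞 : Ideal (MvPolynomial (Fin n) κ) := (RingHom.ker φ₀.toRingHom).map (map (algebraMap A κ))
  let mk : MvPolynomial (Fin n) κ →ₐ[A] MvPolynomial (Fin n) κ ⧸ 𝔞 := Ideal.Quotient.mkₐ A 𝔞
  let left : B →ₐ[A] MvPolynomial (Fin n) κ ⧸ 𝔞 :=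
    (mk.comp (IsScalarTower.toAlgHom A κ (MvPolynomial (Fin n) κ))).comp (IsScalarTower.toAlgHom A B κ)
  let aR : MvPolynomial (Fin n) A →ₐ[A] MvPolynomial (Fin n) κ ⧸ 𝔞 := mk.comp (mapAlgHom (Algebra.ofId A κ))
  have hker : RingHom.ker φ₀.toRingHom ≤ RingHom.ker aR.toRingHom := fun p hp =>
    (Ideal.Quotient.eq_zero_iff_mem (I := 𝔞)).2 (Ideal.mem_map_of_mem _ hp)
  let right : B →ₐ[A] MvPolynomial (Fin n) κ ⧸ 𝔞 := AlgHom.liftOfSurjective φ₀ hφ₀ aR hker
  let Pi0 : B ⊗[A] B →ₐ[A] MvPolynomial (Fin n) κ ⧸ 𝔞 :=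
    Algebra.TensorProduct.lift left right fun _ _ => Commute.all _ _
  have hPi : ∀ p, Pi0 (psi φ₀ p) = mk (map (algebraMap B κ) p) := by
    intro p
    induction p using MvPolynomial.induction_on with
    | C b => simp [Pi0, left, κ]
    | add p q hp hq => rw [map_add, map_add, hp, hq, map_add, map_add]
    | mul_X p i hp =>
      rw [map_mul, map_mul, hp, map_mul, map_mul, psi, aeval_X, map_X]
      congr 1
      simp only [Pi0, Algebra.TensorProduct.lift_tmul, map_one, one_mul]
      exact (AlgHom.liftOfSurjective_apply φ₀ hφ₀ aR hker (X i)).trans (congrArg mk (map_X _ i))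
  refine hdet ((Ideal.Quotient.eq_zero_iff_mem (I := 𝔞)).1 ?_)
  rw [← RingHom.mapMatrix_apply, ← RingHom.map_det]
  change mk (map (algebraMap B κ) c.det) = 0
  rw [← hPi, eq_sum_applyRight (Module.Free.chooseBasis A B) (psi φ₀ c.det), map_sum]
  refine Finset.sum_eq_zero fun i _ => ?_
  rw [Algebra.TensorProduct.lift_tmul]
  have h0 : algebraMap B κ (applyRight ((Module.Free.chooseBasis A B).coord i) (psi φ₀ c.det)) = 0 :=
    Ideal.algebraMap_residueField_eq_zero.2 (hall _)
  simp [left, h0]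


/-- With complete intersection fibres every prime has relations whose determinant avoids it in a contraction. -/
theorem exists_good_relations [Module.Finite A B] [Module.Free A B] (h : Synt.IsSyntomic A B) (φ₀ : MvPolynomial (Fin n) A →ₐ[A] B)
    (hφ₀ : Function.Surjective φ₀) (q : Ideal B) [q.IsMaximal] :
    ∃ (f : Fin n → MvPolynomial (Fin n) A) (c : Matrix (Fin n) (Fin n) (MvPolynomial (Fin n) B)),
      (∀ i, φ₀ (f i) = 0) ∧ (∀ i, map (algebraMap A B) (f i) = ∑ j, c i j * (X j - C (xval φ₀ j))) ∧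
      ∃ τ : B →ₗ[A] A, applyRight τ (psi φ₀ c.det) ∉ q := by
  classical
  let p : Ideal A := q.comap (algebraMap A B)
  letI : Algebra p.ResidueField q.ResidueField := (Ideal.ResidueField.map p q (algebraMap A B) rfl).toAlgebra
  have : IsScalarTower A p.ResidueField q.ResidueField := IsScalarTower.of_algebraMap_eq fun a => by
    rw [RingHom.algebraMap_toAlgebra, Ideal.ResidueField.map_algebraMap, ← IsScalarTower.algebraMap_apply]
  let pt : B →ₐ[A] q.ResidueField := IsScalarTower.toAlgHom A B q.ResidueField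
  let l : p.Fiber B →ₐ[p.ResidueField] q.ResidueField :=
    Algebra.TensorProduct.lift (Algebra.ofId p.ResidueField q.ResidueField) pt fun _ _ => Commute.all _ _
  have : (RingHom.ker l).IsPrime := RingHom.ker_isPrime _
  obtain ⟨g, hg, hci⟩ := (h.2.2 ⟨p, inferInstance⟩).2 ⟨RingHom.ker l, inferInstance⟩
  have hgl : IsUnit (l g) := isUnit_iff_ne_zero.2 hg
  have hnt : Nontrivial (Localization.Away g) :=
    (IsLocalization.Away.lift (S := Localization.Away g) g (g := l.toRingHom) hgl).domain_nontrivial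
  rcases hci with hsub | ⟨m, r', hrm, φ, r, hφ, hker, hdim⟩
  · exact absurd hsub (not_subsingleton_iff_nontrivial.2 hnt)
  have : IsArtinianRing (p.Fiber B) := IsArtinianRing.of_finite p.ResidueField _
  have hdim0 : ringKrullDim (Localization.Away g) = 0 :=
    ringKrullDimZero_iff_ringKrullDim_eq_zero.1 inferInstance
  have hm : r' = m := by
    change ringKrullDim (Localization.Away g) = ((m - r' : ℕ) : WithBot ℕ∞) at hdim
    rw [hdim0] at hdim
    have : m - r' = 0 := by exact_mod_cast hdim.symm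
    omega
  subst hm
  obtain ⟨f, hf, hspan⟩ := exists_local_generators φ₀ hφ₀ pt (fun j => pt (φ₀ (X j))) (fun _ => rfl) g hg φ hφ r hker
  obtain ⟨c, hc⟩ := exists_matrix φ₀ f hf
  refine ⟨f, c, hf, hc, exists_applyRight_notMem φ₀ hφ₀ c q ?_⟩
  let κ := q.ResidueField
  let 𝔞 : Ideal (MvPolynomial (Fin n) κ) := (RingHom.ker φ₀.toRingHom).map (map (algebraMap A κ))
  let aR : MvPolynomial (Fin n) A →ₐ[A] MvPolynomial (Fin n) κ ⧸ 𝔞 :=
    (Ideal.Quotient.mkₐ A 𝔞).comp (mapAlgHom (Algebra.ofId A κ))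
  have hle : RingHom.ker φ₀.toRingHom ≤ RingHom.ker aR.toRingHom := fun p hp =>
    (Ideal.Quotient.eq_zero_iff_mem (I := 𝔞)).2 (Ideal.mem_map_of_mem _ hp)
  let right : B →ₐ[A] MvPolynomial (Fin n) κ ⧸ 𝔞 := AlgHom.liftOfSurjective φ₀ hφ₀ aR hle
  let S : κ ⊗[A] B →ₐ[κ] MvPolynomial (Fin n) κ ⧸ 𝔞 :=
    Algebra.TensorProduct.lift (Algebra.ofId κ _) right fun _ _ => Commute.all _ _
  have hS : Function.Surjective S := by
    intro z
    obtain ⟨z, rfl⟩ := Ideal.Quotient.mk_surjective z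
    induction z using MvPolynomial.induction_on with
    | C a => exact ⟨a ⊗ₜ 1, by simp [S]; rfl⟩
    | add a b ha hb =>
      obtain ⟨a', ha'⟩ := ha
      obtain ⟨b', hb'⟩ := hb
      exact ⟨a' + b', by rw [map_add, map_add, ha', hb']⟩
    | mul_X a i ha =>
      obtain ⟨a', ha'⟩ := ha
      refine ⟨a' * (1 ⊗ₜ[A] φ₀ (X i)), ?_⟩
      rw [map_mul, map_mul, ha']
      congr 1
      simp only [S, Algebra.TensorProduct.lift_tmul, map_one, one_mul]
      exact (AlgHom.liftOfSurjective_apply φ₀ hφ₀ aR hle (X i)).trans (congrArg _ (map_X _ i))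
  have : Module.Finite κ (MvPolynomial (Fin n) κ ⧸ 𝔞) := Module.Finite.of_surjective S.toLinearMap hS
  have : IsArtinianRing (MvPolynomial (Fin n) κ ⧸ 𝔞) := IsArtinianRing.of_finite κ _
  refine det_notMem (fun j => pt (φ₀ (X j))) 𝔞 ?_ (fun i => map (algebraMap A κ) (f i)) ?_ _ fun i => ?_
  · refine Ideal.map_le_iff_le_comap.2 fun z hz => ?_
    change aeval (fun j => pt (φ₀ (X j))) (map (algebraMap A κ) z) = 0
    rw [aeval_map_algebraMap]
    refine (AlgHom.congr_fun (φ₁ := aeval fun j => pt (φ₀ (X j))) (φ₂ := pt.comp φ₀)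
      (algHom_ext fun j => by simp) z).trans ?_
    rw [AlgHom.comp_apply, show φ₀ z = 0 from hz, map_zero]
  · refine Eq.trans ?_ (hspan.trans ?_)
    · exact congrArg (fun v => Ideal.span (Set.range v)) (funext fun i => (ptMap_apply A _ (f i)).symm)
    · rw [Ideal.map_map]
      exact congrArg (fun F => Ideal.map F (RingHom.ker φ₀.toRingHom)) (RingHom.ext fun z => ptMap_apply A _ z)
  · rw [IsScalarTower.algebraMap_eq A B κ, ← MvPolynomial.map_map, hc i, map_sum]
    refine Finset.sum_congr rfl fun j _ => ?_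
    rw [map_mul, map_sub, map_X, map_C]
    rfl

/-- The different of a finite free algebra with complete intersection fibres is `Fit₀(Ω)`. -/
theorem differentSet_eq_fitting [Module.Finite A B] [Module.Free A B] (h : Synt.IsSyntomic A B) :
    Disc.differentSet A B = (Fitt.ideal B (KaehlerDifferential A B) 0 : Set B) := by
  classical
  obtain ⟨n, φ₀, hφ₀⟩ := Algebra.FiniteType.iff_quotient_mvPolynomial''.1
    (inferInstance : Algebra.FiniteType A B)
  rw [fitting_zero_eq φ₀ hφ₀]
  have hle : ∀ d ∈ jacDets φ₀, d ∈ Disc.differentSet A B := by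
    rintro d ⟨f, hf, rfl⟩ ψ
    obtain ⟨c, hc⟩ := exists_matrix φ₀ f hf
    refine ⟨applyRight ψ (psi φ₀ c.det), fun y => ?_⟩
    rw [trace_applyRight (delta_mul φ₀ hφ₀ c f hf hc), lmul'_delta φ₀ c f hc]
  refine Set.Subset.antisymm (fun b hb => ?_) fun b hb => ?_
  · have key : (1 : B) ∈ ({x | b * x ∈ Ideal.span (jacDets φ₀)} : Set B) := by
      let J : Ideal B := (Ideal.span (jacDets φ₀)).colon {b}
      suffices hJ : J = ⊤ by
        have h1 := (Ideal.eq_top_iff_one J).1 hJ
        rw [Submodule.mem_colon_singleton, smul_eq_mul, mul_comm] at h1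
        exact h1
      by_contra hJ
      obtain ⟨q, hq, hJq⟩ := J.exists_le_maximal hJ
      obtain ⟨f, c, hf, hc, τ, hτ⟩ := exists_good_relations h φ₀ hφ₀ q
      refine hτ (hJq ?_)
      rw [Submodule.mem_colon_singleton, smul_eq_mul, mul_comm]
      obtain ⟨e, he⟩ := hb τ
      have hΔ := delta_mul φ₀ hφ₀ c f hf hc
      have h2 : applyRight (τ ∘ₗ LinearMap.mulLeft A b) (psi φ₀ c.det) =
          applyRight ((Algebra.trace A B) ∘ₗ LinearMap.mulLeft A e) (psi φ₀ c.det) :=
        congrArg (fun L => applyRight L (psi φ₀ c.det)) (LinearMap.ext he)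
      rw [applyRight_comp_mulLeft hΔ, applyRight_comp_mulLeft hΔ, applyRight_trace hΔ, lmul'_delta φ₀ c f hc] at h2
      rw [h2]
      exact Ideal.mul_mem_left _ _ (Ideal.subset_span ⟨f, hf, rfl⟩)
    simpa using key
  · intro ψ
    induction hb using Submodule.span_induction with
    | mem d hd => exact hle d hd ψ
    | zero => exact ⟨0, fun y => by simp⟩
    | add a a' _ _ ha ha' =>
      obtain ⟨c₁, h₁⟩ := ha
      obtain ⟨c₂, h₂⟩ := ha'
      exact ⟨c₁ + c₂, fun y => by rw [add_mul, map_add, h₁, h₂, add_mul, map_add]⟩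
    | smul r a _ ha =>
      obtain ⟨c₁, h₁⟩ := ha
      exact ⟨r * c₁, fun y => by
        rw [smul_eq_mul, mul_comm r a, mul_assoc, h₁, mul_comm r c₁, mul_assoc]⟩

end Groth.Agent.Tate
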