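import Groth.Agent.Tate.Different

/-!
# The dualizing module of a finite free complete intersection, and the Noether pairing
-/

noncomputable section

universe u v

open MvPolynomial TensorProduct

namespace Groth.Agent.Tate

variable {A B : Type u} [CommRing A] [CommRing B] [Algebra A B] {n : ℕ}

lemma jac_det_dvd (φ₀ : MvPolynomial (Fin n) A →ₐ[A] B) (f : Fin n → MvPolynomial (Fin n) A)
    (hker : RingHom.ker φ₀.toRingHom = Ideal.span (Set.range f)) {d : B} (hd : d ∈ jacDets φ₀) :
    (Matrix.of fun i j => φ₀ (pderiv j (f i))).det ∣ d := by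
  classical
  obtain ⟨g, hg, rfl⟩ := hd
  have h : ∀ i, ∃ a : Fin n → MvPolynomial (Fin n) A, ∑ k, a k * f k = g i := fun i =>
    Ideal.mem_span_range_iff_exists_fun.1 (hker.le (hg i))
  choose a ha using h
  have hf : ∀ k, φ₀ (f k) = 0 := fun k => hker.ge (Ideal.subset_span ⟨k, rfl⟩)
  refine ⟨(Matrix.of fun i k => φ₀ (a i k)).det, ?_⟩
  rw [mul_comm, ← Matrix.det_mul]
  congr 1
  ext i j
  rw [Matrix.of_apply, ← ha i]
  simp [Matrix.mul_apply, Derivation.leibniz, hf]

/-- `Fit₀(Ω)` of a presentation with as many relations as variables. -/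
theorem fitting_zero_eq_span_det (φ₀ : MvPolynomial (Fin n) A →ₐ[A] B) (hφ₀ : Function.Surjective φ₀)
    (f : Fin n → MvPolynomial (Fin n) A) (hker : RingHom.ker φ₀.toRingHom = Ideal.span (Set.range f)) :
    Fitt.ideal B (KaehlerDifferential A B) 0 = Ideal.span {(Matrix.of fun i j => φ₀ (pderiv j (f i))).det} := by
  rw [fitting_zero_eq φ₀ hφ₀]
  refine le_antisymm (Ideal.span_le.2 fun d hd => Ideal.mem_span_singleton.2 (jac_det_dvd φ₀ f hker hd)) ?_
  refine (Ideal.span_singleton_le_iff_mem _).2 (Ideal.subset_span ⟨f, fun k => ?_, rfl⟩)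
  exact hker.ge (Ideal.subset_span ⟨k, rfl⟩)

/-- Tate: for a finite free global complete intersection `ω` is free, `Tr` corresponds to the Jacobian. -/
theorem exists_omega_equiv [Module.Finite A B] [Module.Free A B] (φ₀ : MvPolynomial (Fin n) A →ₐ[A] B)
    (hφ₀ : Function.Surjective φ₀) (f : Fin n → MvPolynomial (Fin n) A)
    (hker : RingHom.ker φ₀.toRingHom = Ideal.span (Set.range f)) :
    ∃ e : B ≃ₗ[B] Disc.Omega A B,
      e (Matrix.of fun i j => φ₀ (pderiv j (f i))).det = Disc.Omega.trace A B := by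
  classical
  have hf : ∀ k, φ₀ (f k) = 0 := fun k => hker.ge (Ideal.subset_span ⟨k, rfl⟩)
  obtain ⟨c, hc⟩ := exists_matrix φ₀ f hf
  have hΔ := delta_mul φ₀ hφ₀ c f hf hc
  let θ : Disc.Omega A B →ₗ[B] B :=
    { toFun := fun l => applyRight l.toLinearMap (psi φ₀ c.det)
      map_add' := fun l l' => by simp [applyRight, LinearMap.lTensor_add]
      map_smul' := fun b l => applyRight_comp_mulLeft hΔ l.toLinearMap b }
  have hsurj : Function.Surjective θ := by
    rw [← LinearMap.range_eq_top]
    by_contra hne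
    obtain ⟨q, hq, hle⟩ := Ideal.exists_le_maximal (LinearMap.range θ : Ideal B) hne
    let κ := q.ResidueField
    let pt : B →ₐ[A] κ := IsScalarTower.toAlgHom A B κ
    let 𝔞 : Ideal (MvPolynomial (Fin n) κ) := (RingHom.ker φ₀.toRingHom).map (map (algebraMap A κ))
    suffices hdet : (c.map (map (algebraMap B κ))).det ∉ 𝔞 by
      obtain ⟨τ, hτ⟩ := exists_applyRight_notMem φ₀ hφ₀ c q hdet
      exact hτ (hle ⟨⟨τ⟩, rfl⟩)
    let aR : MvPolynomial (Fin n) A →ₐ[A] MvPolynomial (Fin n) κ ⧸ 𝔞 :=
      (Ideal.Quotient.mkₐ A 𝔞).comp (mapAlgHom (Algebra.ofId A κ))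
    have hkle : RingHom.ker φ₀.toRingHom ≤ RingHom.ker aR.toRingHom := fun p hp =>
      (Ideal.Quotient.eq_zero_iff_mem (I := 𝔞)).2 (Ideal.mem_map_of_mem _ hp)
    let right : B →ₐ[A] MvPolynomial (Fin n) κ ⧸ 𝔞 := AlgHom.liftOfSurjective φ₀ hφ₀ aR hkle
    let S : κ ⊗[A] B →ₐ[κ] MvPolynomial (Fin n) κ ⧸ 𝔞 :=
      Algebra.TensorProduct.lift (Algebra.ofId κ _) right fun _ _ => Commute.all _ _
    have hS : Function.Surjective S := by
      intro z
      obtain ⟨z, rfl⟩ := Ideal.Quotient.mk_surjective z
      induction z using MvPolynomial.induction_on with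
      | C a => exact ⟨a ⊗ₜ 1, by simp [S]; rfl⟩
      | add a b ha hb =>
        obtain ⟨a', ha'⟩ := ha
        obtain ⟨b', hb'⟩ := hb
        exact ⟨a' + b', by rw [map_add, map_add, ha', hb']⟩
      | mul_X a i ha =>
        obtain ⟨a', ha'⟩ := ha
        refine ⟨a' * (1 ⊗ₜ[A] φ₀ (X i)), ?_⟩
        rw [map_mul, map_mul, ha']
        congr 1
        simp only [S, Algebra.TensorProduct.lift_tmul, map_one, one_mul]
        exact (AlgHom.liftOfSurjective_apply φ₀ hφ₀ aR hkle (X i)).trans (congrArg _ (map_X _ i))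
    have : Module.Finite κ (MvPolynomial (Fin n) κ ⧸ 𝔞) := Module.Finite.of_surjective S.toLinearMap hS
    have : IsArtinianRing (MvPolynomial (Fin n) κ ⧸ 𝔞) := IsArtinianRing.of_finite κ _
    refine det_notMem (fun j => pt (φ₀ (X j))) 𝔞 ?_ (fun i => map (algebraMap A κ) (f i)) ?_ _ fun i => ?_
    · refine Ideal.map_le_iff_le_comap.2 fun z hz => ?_
      change aeval (fun j => pt (φ₀ (X j))) (map (algebraMap A κ) z) = 0
      rw [aeval_map_algebraMap]
      refine (AlgHom.congr_fun (φ₁ := aeval fun j => pt (φ₀ (X j))) (φ₂ := pt.comp φ₀)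
        (algHom_ext fun j => by simp) z).trans ?_
      rw [AlgHom.comp_apply, show φ₀ z = 0 from hz, map_zero]
    · rw [Ideal.map_map, hker, Ideal.map_span, ← Set.range_comp]
      rfl
    · rw [IsScalarTower.algebraMap_eq A B κ, ← MvPolynomial.map_map, hc i, map_sum]
      refine Finset.sum_congr rfl fun j _ => ?_
      rw [map_mul, map_sub, map_X, map_C]
      rfl
  have hinj : Function.Injective θ := by
    let D : B ≃ₗ[A] (B →ₗ[A] A) := (Module.Free.chooseBasis A B).toDualEquiv
    let θA : (B →ₗ[A] A) →ₗ[A] B :=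
      { toFun := fun φ => applyRight φ (psi φ₀ c.det)
        map_add' := fun φ φ' => by simp [applyRight, LinearMap.lTensor_add]
        map_smul' := fun a φ => by simp [applyRight, LinearMap.lTensor_smul] }
    have hsurjA : Function.Surjective (θA ∘ₗ D.toLinearMap) := fun y => by
      obtain ⟨l, hl⟩ := hsurj y
      exact ⟨D.symm l.toLinearMap, by rw [LinearMap.comp_apply, LinearEquiv.coe_coe, D.apply_symm_apply]; exact hl⟩
    have h := OrzechProperty.injective_of_surjective_endomorphism _ hsurjA
    intro x y hxy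
    refine Disc.Omega.ext (D.symm.injective (h ?_))
    simp only [LinearMap.comp_apply, LinearEquiv.coe_coe, D.apply_symm_apply]
    exact hxy
  let e := (LinearEquiv.ofBijective θ ⟨hinj, hsurj⟩).symm
  refine ⟨e, ?_⟩
  refine (LinearEquiv.symm_apply_eq _).2 ?_
  change _ = applyRight (Algebra.trace A B) (psi φ₀ c.det)
  rw [applyRight_trace hΔ, lmul'_delta φ₀ c f hc]

section Pairing

variable {A : Type u} {B : Type v} [CommRing A] [CommRing B] [Algebra A B] [Module.Finite A B] [Module.Free A B]

/-- `u ⊗ v ↦ l u • v`. -/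
def applyLeft (l : B →ₗ[A] A) : B ⊗[A] B →ₗ[A] B := TensorProduct.lift ((LinearMap.lsmul A B).comp l)

omit [Module.Finite A B] [Module.Free A B] in
lemma applyLeft_eq (l : B →ₗ[A] A) (z : B ⊗[A] B) :
    applyLeft l z = applyRight l (TensorProduct.comm A B B z) := by
  induction z using TensorProduct.induction_on with
  | zero => simp
  | tmul u v => simp [applyLeft]
  | add a b ha hb => rw [map_add, map_add, map_add, ha, hb]

omit [Module.Finite A B] [Module.Free A B] in
lemma diag_iff (z : B ⊗[A] B) :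
    z ∈ Submodule.annihilator (RingHom.ker (Algebra.TensorProduct.lmul' (S := B) A)) ↔
      ∀ b : B, z * (b ⊗ₜ[A] 1) = z * (1 ⊗ₜ[A] b) := by
  rw [Submodule.mem_annihilator]
  constructor
  · intro h b
    have h1 := h (b ⊗ₜ 1 - 1 ⊗ₜ b) (by simp [RingHom.mem_ker])
    rwa [smul_eq_mul, mul_sub, sub_eq_zero] at h1
  · intro h w hw
    rw [smul_eq_mul]
    have key : ∀ w : B ⊗[A] B, z * w = z * (1 ⊗ₜ[A] Algebra.TensorProduct.lmul' (S := B) A w) := by
      intro w
      induction w using TensorProduct.induction_on with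
      | zero => simp
      | tmul u v =>
        rw [show (u ⊗ₜ[A] v : B ⊗[A] B) = (u ⊗ₜ 1) * (1 ⊗ₜ v) by simp, ← mul_assoc, h, mul_assoc]
        simp
      | add a b ha hb => rw [mul_add, ha, hb, map_add, tmul_add, mul_add]
    rw [key, RingHom.mem_ker.1 hw, tmul_zero, mul_zero]

omit [Module.Finite A B] [Module.Free A B] in
lemma comm_mul (z w : B ⊗[A] B) :
    TensorProduct.comm A B B (z * w) = TensorProduct.comm A B B z * TensorProduct.comm A B B w :=
  map_mul (Algebra.TensorProduct.comm A B B) z w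

omit [Module.Finite A B] [Module.Free A B] in
lemma diag_comm {z : B ⊗[A] B} (h : ∀ b : B, z * (b ⊗ₜ[A] 1) = z * (1 ⊗ₜ[A] b)) (b : B) :
    TensorProduct.comm A B B z * (b ⊗ₜ[A] 1) = TensorProduct.comm A B B z * (1 ⊗ₜ[A] b) := by
  have := congrArg (TensorProduct.comm A B B) (h b)
  rw [comm_mul, comm_mul, TensorProduct.comm_tmul, TensorProduct.comm_tmul] at this
  exact this.symm

omit [Module.Finite A B] [Module.Free A B] in
lemma applyRight_mul_left (φ : B →ₗ[A] A) (z : B ⊗[A] B) (b : B) :
    applyRight φ (z * (b ⊗ₜ[A] 1)) = b * applyRight φ z := by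
  induction z using TensorProduct.induction_on with
  | zero => simp
  | tmul u v => simp [mul_comm u]
  | add x y hx hy => rw [add_mul, map_add, map_add, hx, hy, mul_add]

omit [Module.Finite A B] [Module.Free A B] in
lemma applyRight_mul_right (φ : B →ₗ[A] A) (z : B ⊗[A] B) (b : B) :
    applyRight φ (z * (1 ⊗ₜ[A] b)) = applyRight (φ ∘ₗ LinearMap.mulLeft A b) z := by
  induction z using TensorProduct.induction_on with
  | zero => simp
  | tmul u v => simp [mul_comm v]
  | add x y hx hy => rw [add_mul, map_add, map_add, hx, hy]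

/-- The Noether pairing: `B`-linear forms on `ω` come from the annihilator of the diagonal. -/
theorem existsUnique_pairing (Φ : Disc.Omega A B →ₗ[B] B) :
    ∃! z : B ⊗[A] B, z ∈ Submodule.annihilator (RingHom.ker (Algebra.TensorProduct.lmul' (S := B) A)) ∧
      ∀ l : Disc.Omega A B, Φ l = applyLeft l.toLinearMap z := by
  classical
  let e := Module.Free.chooseBasis A B
  let w : B ⊗[A] B := ∑ i, Φ ⟨e.coord i⟩ ⊗ₜ[A] e i
  have hw : ∀ l : B →ₗ[A] A, applyRight l w = Φ ⟨l⟩ := by
    intro l
    have hl : (⟨l⟩ : Disc.Omega A B) = ∑ i, algebraMap A B (l (e i)) • ⟨e.coord i⟩ := by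
      refine Disc.Omega.ext ?_
      have htl : ∀ s : Finset (Module.Free.ChooseBasisIndex A B),
          (∑ i ∈ s, algebraMap A B (l (e i)) • (⟨e.coord i⟩ : Disc.Omega A B)).toLinearMap =
            ∑ i ∈ s, l (e i) • e.coord i := fun s => by
        induction s using Finset.induction_on with
        | empty => rfl
        | insert a s ha ih =>
          rw [Finset.sum_insert ha, Finset.sum_insert ha, Disc.Omega.add_toLinearMap, ih]
          congr 1
          ext y
          simp [← Algebra.smul_def]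
      rw [htl]
      exact e.ext fun j => by simp
    rw [hl, map_sum]
    simp only [w, map_sum, map_smul, applyRight_tmul, Algebra.smul_def]
    exact Finset.sum_congr rfl fun i _ => rfl
  have hwd : ∀ b : B, w * (b ⊗ₜ[A] 1) = w * (1 ⊗ₜ[A] b) := by
    intro b
    rw [eq_sum_applyRight e (w * (b ⊗ₜ[A] 1)), eq_sum_applyRight e (w * (1 ⊗ₜ[A] b))]
    refine Finset.sum_congr rfl fun i _ => ?_
    rw [applyRight_mul_left, applyRight_mul_right, hw, hw, ← smul_eq_mul, ← map_smul]
    rfl
  refine ⟨TensorProduct.comm A B B w, ⟨(diag_iff _).2 (diag_comm hwd), fun l => ?_⟩, fun z hz => ?_⟩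
  · rw [applyLeft_eq, show (TensorProduct.comm A B B) (TensorProduct.comm A B B w) = w from
      TensorProduct.comm_comm A B B w, hw]
  · have h : TensorProduct.comm A B B z = w := by
      rw [eq_sum_applyRight e (TensorProduct.comm A B B z), eq_sum_applyRight e w]
      refine Finset.sum_congr rfl fun i _ => ?_
      rw [← applyLeft_eq, ← hz.2 ⟨e.coord i⟩, hw]
    rw [← h]
    exact (TensorProduct.comm_comm A B B z).symm

/-- The Noether different as the values at the trace of the forms on `ω`. -/
theorem mem_noetherDifferent_iff (x : B) :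
    x ∈ Disc.noetherDifferent A B ↔ ∃ Φ : Disc.Omega A B →ₗ[B] B, Φ (Disc.Omega.trace A B) = x := by
  rw [Disc.noetherDifferent, Ideal.mem_map_iff_of_surjective _ fun b => ⟨b ⊗ₜ 1, by simp⟩]
  constructor
  · rintro ⟨z, hz, rfl⟩
    rw [diag_iff] at hz
    exact ⟨{ toFun := fun l => applyRight l.toLinearMap z
             map_add' := fun l l' => by simp [applyRight, LinearMap.lTensor_add]
             map_smul' := fun b l => applyRight_comp_mulLeft hz l.toLinearMap b }, applyRight_trace hz⟩
  · rintro ⟨Φ, rfl⟩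
    obtain ⟨z, ⟨hz, hΦ⟩, -⟩ := existsUnique_pairing Φ
    refine ⟨z, hz, ?_⟩
    rw [hΦ, applyLeft_eq]
    change _ = applyRight (Algebra.trace A B) _
    rw [applyRight_trace (diag_comm ((diag_iff z).1 hz))]
    clear hz hΦ
    induction z using TensorProduct.induction_on with
    | zero => simp
    | tmul u v => simp [mul_comm]
    | add a b ha hb => rw [map_add, map_add, map_add, ha, hb]

/-- For invertible `ω` the different is the Noether different. -/
theorem differentSet_eq_noether [Module.Invertible B (Disc.Omega A B)] :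
    Disc.differentSet A B = (Disc.noetherDifferent A B : Set B) := by
  refine Set.Subset.antisymm (fun b hb => ?_) fun b hb => ?_
  · let J : Ideal B := (Disc.noetherDifferent A B).colon {b}
    suffices hJ : J = ⊤ by
      have h1 := (Ideal.eq_top_iff_one J).1 hJ
      rw [Submodule.mem_colon_singleton, smul_eq_mul, one_mul] at h1
      exact h1
    have key : ∀ t : Module.Dual B (Disc.Omega A B) ⊗[B] Disc.Omega A B, contractLeft B _ t ∈ J := by
      intro t
      induction t using TensorProduct.induction_on with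
      | zero => simp
      | tmul Φ τ =>
        rw [contractLeft_apply, Submodule.mem_colon_singleton, smul_eq_mul, mul_comm, ← smul_eq_mul, ← map_smul]
        obtain ⟨c, hc⟩ := hb τ.toLinearMap
        rw [show b • τ = c • Disc.Omega.trace A B from Disc.Omega.ext (LinearMap.ext hc), map_smul, smul_eq_mul]
        exact Ideal.mul_mem_left _ _ ((mem_noetherDifferent_iff _).2 ⟨Φ, rfl⟩)
      | add x y hx hy => rw [map_add]; exact add_mem hx hy
    refine (Ideal.eq_top_iff_one J).2 ?_
    obtain ⟨t, ht⟩ := (Module.Invertible.bijective (R := B) (M := Disc.Omega A B)).2 1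
    exact ht ▸ key t
  · intro φ
    rw [SetLike.mem_coe, Disc.noetherDifferent, Ideal.mem_map_iff_of_surjective _ fun b => ⟨b ⊗ₜ 1, by simp⟩] at hb
    obtain ⟨z, hz, rfl⟩ := hb
    exact ⟨applyRight φ z, fun y => (trace_applyRight ((diag_iff z).1 hz) φ y).symm⟩

end Pairing

/-- Norms of elements of the different are multiples of the discriminant. -/
theorem norm_mem_span_discr {A : Type u} {B : Type*} [CommRing A] [CommRing B] [Algebra A B] {ι : Type*} [Fintype ι]
    [DecidableEq ι] (b : Module.Basis ι A B) {x : B} (hx : x ∈ Disc.differentSet A B) :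
    Algebra.norm A x ∈ Ideal.span {Algebra.discr A b} := by
  choose c hc using fun i => hx (b.coord i)
  refine Ideal.mem_span_singleton.2 ⟨(Matrix.of fun i k => b.repr (c i) k).det, ?_⟩
  rw [Algebra.norm_eq_matrix_det b, Algebra.discr_def, mul_comm, ← Matrix.det_mul]
  congr 1
  ext i j
  rw [Algebra.leftMulMatrix_eq_repr_mul, ← Module.Basis.coord_apply, hc]
  conv_lhs => rw [← b.sum_repr (c i), Finset.sum_mul, map_sum]
  simp [Matrix.mul_apply, Algebra.traceMatrix_apply, Algebra.traceForm_apply]

end Groth.Agent.Tate
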