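import Groth.Prelude.Def_Disc
import Mathlib.RingTheory.Kaehler.Basic
import Mathlib.RingTheory.Flat.EquationalCriterion
import Mathlib.RingTheory.RingHom.Flat
import Mathlib.RingTheory.IsTensorProduct
import Mathlib.RingTheory.Unramified.Locus

/-!
# Noether different: ramified locus, flat base change
-/

noncomputable section

universe u v

open TensorProduct

namespace Groth.Agent.Tate

/-- Annihilators of finitely generated ideals commute with flat extensions. -/
theorem mem_map_annihilator {C C' : Type u} [CommRing C] [CommRing C'] [Algebra C C'] [Module.Flat C C']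
    {I : Ideal C} (hI : I.FG) {x : C'} (hx : ∀ y ∈ I, x * algebraMap C C' y = 0) :
    x ∈ (Submodule.annihilator I).map (algebraMap C C') := by
  classical
  obtain ⟨m, g, hg⟩ := Submodule.fg_iff_exists_fin_generating_family.1 hI
  let f : (Fin m → C) →ₗ[C] C := Fintype.linearCombination C g
  have h : (LinearMap.toSpanSingleton C C' x) ∘ₗ f = 0 := by
    refine LinearMap.ext fun v => ?_
    change f v • x = 0
    rw [Algebra.smul_def, mul_comm]
    exact hx _ (hg.le ((Submodule.mem_span_range_iff_exists_fun C).2 ⟨v, rfl⟩))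
  obtain ⟨k, a, y, hxy, haf⟩ := Module.Flat.exists_factorization_of_comp_eq_zero_of_free h
  have hx1 : x = y (a 1) := by
    rw [← LinearMap.comp_apply, ← hxy, LinearMap.toSpanSingleton_apply, one_smul]
  have hann : ∀ l, a 1 l ∈ Submodule.annihilator I := by
    intro l
    rw [Submodule.mem_annihilator]
    intro z hz
    rw [← hg] at hz
    obtain ⟨v, rfl⟩ := (Submodule.mem_span_range_iff_exists_fun C).1 hz
    have h0 : a (f v) = 0 := LinearMap.congr_fun haf v
    rw [← mul_one (f v), ← smul_eq_mul, map_smul] at h0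
    rw [smul_eq_mul, mul_comm, ← smul_eq_mul]
    exact (Finsupp.smul_apply ..).symm.trans (DFunLike.congr_fun h0 l)
  rw [hx1, ← Finsupp.univ_sum_single (a 1), map_sum]
  refine Ideal.sum_mem _ fun l _ => ?_
  rw [← Finsupp.smul_single_one, map_smul, Algebra.smul_def]
  exact Ideal.mul_mem_right _ _ (Ideal.mem_map_of_mem _ (hann l))

variable {A : Type u} {B : Type v} [CommRing A] [CommRing B] [Algebra A B]

lemma diag_smul (x : B ⊗[A] B) (w : Ω[B⁄A]) :
    x • w = (Algebra.TensorProduct.lmul' (S := B) A x) • w := by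
  obtain ⟨w, rfl⟩ := (KaehlerDifferential.ideal A B).toCotangent_surjective w
  have hmem : x - algebraMap B (B ⊗[A] B) (Algebra.TensorProduct.lmul' (S := B) A x) ∈
      KaehlerDifferential.ideal A B := by
    simp [KaehlerDifferential.ideal, RingHom.mem_ker, Algebra.TensorProduct.algebraMap_apply]
  have h : (x - algebraMap B (B ⊗[A] B) (Algebra.TensorProduct.lmul' (S := B) A x)) •
      ((KaehlerDifferential.ideal A B).toCotangent w : Ω[B⁄A]) = 0 :=
    Ideal.Cotangent.smul_eq_zero_of_mem hmem _
  exact (sub_eq_zero.1 ((sub_smul ..).symm.trans h)).trans (IsScalarTower.algebraMap_smul (M := Ω[B⁄A]) (B ⊗[A] B) _ _)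

/-- The zero locus of the Noether different is the ramified locus. -/
theorem zeroLocus_noetherDifferent [Algebra.FiniteType A B] :
    {q : PrimeSpectrum B | Disc.noetherDifferent A B ≤ q.asIdeal} = (Algebra.unramifiedLocus A B)ᶜ := by
  classical
  rw [Algebra.unramifiedLocus_eq_compl_support, compl_compl]
  ext q
  rw [Set.mem_ofPred_eq, ← not_iff_not, Module.notMem_support_iff']
  constructor
  · intro h
    obtain ⟨x, hx, hxq⟩ := SetLike.not_le_iff_exists.1 h
    rw [Disc.noetherDifferent, Ideal.mem_map_iff_of_surjective _ fun b => ⟨b ⊗ₜ 1, by simp⟩] at hx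
    obtain ⟨z, hz, rfl⟩ := hx
    intro w
    refine ⟨_, hxq, ?_⟩
    obtain ⟨w, rfl⟩ := (KaehlerDifferential.ideal A B).toCotangent_surjective w
    refine (diag_smul z _).symm.trans ?_
    change z • (KaehlerDifferential.ideal A B).toCotangent w = 0
    rw [← map_smul, show z • w = 0 from Subtype.ext (Submodule.mem_annihilator.1 hz w w.2), map_zero]
  · intro h
    obtain ⟨S, hS⟩ := (inferInstance : Module.Finite B Ω[B⁄A]).fg_top
    choose r hr hr0 using h
    let s : B := ∏ w ∈ S, r w
    have hsq : s ∉ q.asIdeal := by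
      simp only [s, q.2.prod_mem_iff, not_exists, not_and]
      exact fun w _ => hr w
    have hs0 : ∀ w : Ω[B⁄A], s • w = 0 := by
      intro w
      have hw : w ∈ Submodule.span B (S : Set Ω[B⁄A]) := hS ▸ trivial
      induction hw using Submodule.span_induction with
      | mem v hv =>
        rw [show s = (∏ u ∈ S.erase v, r u) * r v from (Finset.prod_erase_mul S r hv).symm, mul_smul, hr0, smul_zero]
      | zero => exact smul_zero _
      | add a b _ _ ha hb => rw [smul_add, ha, hb, add_zero]
      | smul c a _ ha => rw [smul_comm, ha, smul_zero]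
    obtain ⟨m, g, hg⟩ := Submodule.fg_iff_exists_fin_generating_family.1 (KaehlerDifferential.ideal_fg A B)
    let I := KaehlerDifferential.ideal A B
    have hgI : ∀ i, g i ∈ I := fun i => hg.le (Submodule.subset_span ⟨i, rfl⟩)
    have hmat : ∀ i, ∃ a : Fin m → B ⊗[A] B, (∀ j, a j ∈ I) ∧ ∑ j, a j * g j = (s ⊗ₜ[A] 1) * g i := by
      intro i
      have h0 : (s ⊗ₜ[A] (1 : B)) * g i ∈ I ^ 2 := by
        rw [← I.toCotangent_eq_zero ⟨_, I.mul_mem_left _ (hgI i)⟩]
        exact (map_smul I.toCotangent (s ⊗ₜ[A] (1 : B)) ⟨g i, hgI i⟩).trans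
          ((IsScalarTower.algebraMap_smul (B ⊗[A] B) s (I.toCotangent ⟨g i, hgI i⟩ : Ω[B⁄A])).trans (hs0 _))
      have h1 : I ^ 2 = I • Submodule.span (B ⊗[A] B) (Set.range g) := by rw [hg, pow_two, smul_eq_mul]
      rw [h1, Submodule.mem_ideal_smul_span_iff_exists_sum] at h0
      obtain ⟨a, ha, hsum⟩ := h0
      exact ⟨fun j => a j, ha, by rw [← hsum, Finsupp.sum_fintype _ _ (by simp)]; rfl⟩
    choose a haI ha using hmat
    let M : Matrix (Fin m) (Fin m) (B ⊗[A] B) := (s ⊗ₜ[A] (1 : B)) • 1 - Matrix.of a
    have hM : M.mulVec g = 0 := by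
      funext i
      rw [Matrix.sub_mulVec, Matrix.smul_mulVec, Matrix.one_mulVec, Pi.sub_apply, Pi.smul_apply, smul_eq_mul]
      exact sub_eq_zero.2 (ha i).symm
    have hdet : M.det ∈ Submodule.annihilator I := by
      rw [show I = Submodule.span (B ⊗[A] B) (Set.range g) from hg.symm, Submodule.mem_annihilator_span]
      rintro ⟨_, i, rfl⟩
      have h2 := congrArg (M.adjugate.mulVec) hM
      rw [Matrix.mulVec_mulVec, Matrix.adjugate_mul, Matrix.smul_mulVec, Matrix.one_mulVec, Matrix.mulVec_zero] at h2
      exact congrFun h2 i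
    refine fun hle => q.2.ne_top (Ideal.eq_top_iff_one _ |>.2 ?_)
    have h3 := hle (Ideal.mem_map_of_mem (Algebra.TensorProduct.lmul' (S := B) A) hdet)
    have h4 : Algebra.TensorProduct.lmul' (S := B) A M.det = s ^ m := by
      rw [AlgHom.map_det]
      have : (Algebra.TensorProduct.lmul' (S := B) A).mapMatrix M = s • 1 := by
        ext i j
        have hI0 : Algebra.TensorProduct.lmul' (S := B) A (a i j) = 0 := haI i j
        simp [M, Matrix.one_apply, hI0, apply_ite (Algebra.TensorProduct.lmul' (S := B) A)]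
      rw [this, Matrix.det_smul, Matrix.det_one, mul_one, Fintype.card_fin]
    rw [h4] at h3
    exact absurd (q.2.mem_of_pow_mem m h3) hsq

/-- Flat base change of the Noether different. -/
theorem noetherDifferent_baseChange {A B A' B' : Type u} [CommRing A] [CommRing B]
    [CommRing A'] [CommRing B'] [Algebra A B] [Algebra A A'] [Algebra A B'] [Algebra B B']
    [Algebra A' B'] [IsScalarTower A B B'] [IsScalarTower A A' B']
    [Algebra.IsPushout A B A' B'] [Algebra.FiniteType A B] [Module.Flat A A'] :
    Disc.noetherDifferent A' B' = (Disc.noetherDifferent A B).map (algebraMap B B') := by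
  classical
  haveI hpush : Algebra.IsPushout A A' B B' := Algebra.IsPushout.symm inferInstance
  haveI : Module.Flat B B' := Module.Flat.of_linearEquiv (Algebra.IsPushout.equiv A B A' B').symm.toLinearEquiv
  let j : B ⊗[A] B →ₐ[A] B' ⊗[A] B :=
    Algebra.TensorProduct.map (IsScalarTower.toAlgHom A B B') (AlgHom.id A B)
  letI : Algebra (B ⊗[A] B) (B' ⊗[A] B) := j.toRingHom.toAlgebra
  haveI : Module.Flat (B ⊗[A] B) (B' ⊗[A] B) := by
    let e₁ : (B ⊗[A] B) ⊗[B] B' ≃+* B' ⊗[A] B :=
      ((Algebra.TensorProduct.comm B (B ⊗[A] B) B').toRingEquiv.trans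
        (Algebra.TensorProduct.cancelBaseChange A B B' B' B).toRingEquiv)
    have hcomp : j.toRingHom = e₁.toRingHom.comp (algebraMap (B ⊗[A] B) ((B ⊗[A] B) ⊗[B] B')) := by
      refine RingHom.ext fun z => ?_
      induction z using TensorProduct.induction_on with
      | zero => simp
      | tmul u v => simp [j, e₁, Algebra.TensorProduct.algebraMap_apply, Algebra.smul_def]
      | add a b ha hb => rw [map_add, map_add, ha, hb]
    change RingHom.Flat j.toRingHom
    rw [hcomp]
    exact RingHom.Flat.comp ((RingHom.flat_algebraMap_iff ..).2 inferInstance) (RingHom.Flat.of_bijective e₁.bijective)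
  let μ'' : B' ⊗[A] B →ₐ[A] B' :=
    Algebra.TensorProduct.lift (AlgHom.id A B') (IsScalarTower.toAlgHom A B B') fun _ _ => Commute.all _ _
  let μ := Algebra.TensorProduct.lmul' (S := B) A
  have hμj : ∀ z, μ'' (j z) = algebraMap B B' (μ z) := by
    intro z
    induction z using TensorProduct.induction_on with
    | zero => simp
    | tmul u v => simp [μ'', j, μ]
    | add a b ha hb => simp only [map_add, ha, hb]
  let I := RingHom.ker μ
  have hker : RingHom.ker μ'' = I.map j.toRingHom := by
    refine le_antisymm (fun w hw => ?_) (Ideal.map_le_iff_le_comap.2 fun z hz => ?_)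
    · have key : ∀ w : B' ⊗[A] B, w - μ'' w ⊗ₜ 1 ∈ I.map j.toRingHom := by
        intro w
        induction w using TensorProduct.induction_on with
        | zero => simp
        | tmul u v =>
          rw [show μ'' (u ⊗ₜ v) = u * algebraMap B B' v by simp [μ''],
            show u ⊗ₜ[A] v - (u * algebraMap B B' v) ⊗ₜ[A] (1 : B) =
              (u ⊗ₜ[A] (1 : B)) * j (1 ⊗ₜ v - v ⊗ₜ 1) by simp [j, mul_sub]]
          exact Ideal.mul_mem_left _ _ (Ideal.mem_map_of_mem j.toRingHom (by simp [I, μ, RingHom.mem_ker]))
        | add a b ha hb =>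
          rw [map_add, add_tmul, add_sub_add_comm]
          exact add_mem ha hb
      have := key w
      rwa [RingHom.mem_ker.1 hw, zero_tmul, sub_zero] at this
    · change μ'' (j z) = 0
      rw [hμj, RingHom.mem_ker.1 hz, map_zero]
  -- compare with `B' ⊗[A'] B'`
  let ε : B' ⊗[A] B ≃ₐ[A'] B' ⊗[A'] B' :=
    (Algebra.TensorProduct.cancelBaseChange A A' A' B' B).symm.trans
      (Algebra.TensorProduct.congr AlgEquiv.refl (Algebra.IsPushout.equiv A A' B B'))
  have hε : ∀ w, Algebra.TensorProduct.lmul' (S := B') A' (ε w) = μ'' w := by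
    intro w
    induction w using TensorProduct.induction_on with
    | zero => simp
    | tmul u v => simp [ε, μ'', Algebra.IsPushout.equiv_tmul]
    | add a b ha hb => simp only [map_add, ha, hb]
  refine le_antisymm ?_ ?_
  · rw [Disc.noetherDifferent]
    refine Ideal.map_le_iff_le_comap.2 fun z hz => ?_
    obtain ⟨w, rfl⟩ := ε.surjective z
    rw [Submodule.mem_annihilator] at hz
    have hw := mem_map_annihilator (C := B ⊗[A] B) (C' := B' ⊗[A] B) (I := I) (x := w)
      (KaehlerDifferential.ideal_fg A B) fun y hy => by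
        refine ε.injective ?_
        rw [map_mul, map_zero]
        refine hz _ ?_
        rw [RingHom.mem_ker, hε]
        exact RingHom.mem_ker.1 (hker.ge (Ideal.mem_map_of_mem _ hy))
    change Algebra.TensorProduct.lmul' (S := B') A' (ε w) ∈ (Disc.noetherDifferent A B).map (algebraMap B B')
    rw [hε]
    have hle : (Submodule.annihilator I).map j.toRingHom ≤
        ((Disc.noetherDifferent A B).map (algebraMap B B')).comap μ''.toRingHom := by
      refine Ideal.map_le_iff_le_comap.2 fun y hy => ?_
      change μ'' (j y) ∈ (Disc.noetherDifferent A B).map (algebraMap B B')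
      rw [hμj]
      exact Ideal.mem_map_of_mem _ (Ideal.mem_map_of_mem _ hy)
    exact hle hw
  · refine Ideal.map_le_iff_le_comap.2 (Ideal.map_le_iff_le_comap.2 fun y hy => ?_)
    rw [Submodule.mem_annihilator] at hy
    change algebraMap B B' (μ y) ∈ Disc.noetherDifferent A' B'
    rw [← hμj, ← hε]
    refine Ideal.mem_map_of_mem _ (Submodule.mem_annihilator.2 fun z hz => ?_)
    obtain ⟨w, rfl⟩ := ε.surjective z
    rw [RingHom.mem_ker, hε] at hz
    have hw : w ∈ I.map j.toRingHom := hker.le hz
    rw [smul_eq_mul, ← map_mul]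
    suffices h0 : j y * w = 0 by rw [h0, map_zero]
    clear hz
    induction hw using Submodule.span_induction with
    | mem t ht =>
      obtain ⟨t, ht, rfl⟩ := ht
      change j y * j t = 0
      rw [← map_mul, show y * t = 0 from hy t ht, map_zero]
    | zero => exact mul_zero _
    | add a b _ _ ha hb => rw [mul_add, ha, hb, add_zero]
    | smul c a _ ha => rw [smul_eq_mul, mul_left_comm, ha, mul_zero]

end Groth.Agent.Tate
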