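import Groth.Agent.Tate.Point
import Groth.Agent.KoszulExt.Regular
import Groth.Agent.CotTLib.LocalCI

/-!
# Tate's determinant does not vanish at an isolated complete intersection point
-/

noncomputable section

universe u

open IsLocalRing MvPolynomial

namespace Groth.Agent.Tate

variable {κ : Type u} [Field κ] {n : ℕ} (ξ : Fin n → κ)

/-- The determinant of a matrix expressing `n` elements cutting a finite scheme at `ξ` in terms of the
coordinates is nonzero in the local ring of the scheme. -/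
theorem det_notMem (𝔞 : Ideal (MvPolynomial (Fin n) κ)) [IsArtinianRing (MvPolynomial (Fin n) κ ⧸ 𝔞)]
    (h𝔞 : 𝔞 ≤ ptIdeal ξ) (f : Fin n → MvPolynomial (Fin n) κ)
    (hf : Ideal.span (Set.range fun i => algebraMap _ (PtRing ξ) (f i)) = 𝔞.map (algebraMap _ (PtRing ξ)))
    (c : Matrix (Fin n) (Fin n) (MvPolynomial (Fin n) κ))
    (hc : ∀ i, f i = ∑ j, c i j * (X j - C (ξ j))) :
    c.det ∉ 𝔞 := by
  classical
  intro hdet
  let ι := algebraMap (MvPolynomial (Fin n) κ) (PtRing ξ)
  set I : Ideal (PtRing ξ) := 𝔞.map ι with hI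
  have hIle : I ≤ maximalIdeal (PtRing ξ) := by
    rw [hI, ← Localization.AtPrime.map_eq_maximalIdeal]
    exact Ideal.map_mono h𝔞
  have hne : I ≠ ⊤ := fun h => (maximalIdeal.isMaximal (PtRing ξ)).ne_top (top_le_iff.1 (h ▸ hIle))
  have hprime : ∀ p : Ideal (PtRing ξ), p.IsPrime → I ≤ p → p = maximalIdeal (PtRing ξ) := by
    intro p hp hIp
    have hle : 𝔞 ≤ p.comap ι := Ideal.map_le_iff_le_comap.1 hIp
    have hmax : (p.comap ι).IsMaximal := by
      have h1 : ((p.comap ι).map (Ideal.Quotient.mk 𝔞)).IsPrime :=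
        Ideal.map_isPrime_of_surjective Ideal.Quotient.mk_surjective (by rwa [Ideal.mk_ker])
      have h2 : ((p.comap ι).map (Ideal.Quotient.mk 𝔞)).IsMaximal := IsArtinianRing.isMaximal_of_isPrime _
      have h3 := Ideal.comap_isMaximal_of_surjective (Ideal.Quotient.mk 𝔞) Ideal.Quotient.mk_surjective (K := _) (H := h2)
      rwa [Ideal.comap_map_of_surjective _ Ideal.Quotient.mk_surjective, ← RingHom.ker_eq_comap_bot, Ideal.mk_ker,
        sup_eq_left.2 hle] at h3
    have hdisj : p.comap ι ≤ ptIdeal ξ := by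
      intro z hz
      by_contra h
      exact hp.ne_top (Ideal.eq_top_of_isUnit_mem _ hz
        (IsLocalization.map_units (PtRing ξ) (⟨z, h⟩ : (ptIdeal ξ).primeCompl)))
    have heq := hmax.eq_of_le (Ideal.IsMaximal.ne_top inferInstance) hdisj
    refine (IsLocalization.map_under (ptIdeal ξ).primeCompl _ p).symm.trans ?_
    exact (congrArg (Ideal.map ι) heq).trans Localization.AtPrime.map_eq_maximalIdeal
  have : Nontrivial (PtRing ξ ⧸ I) := Ideal.Quotient.nontrivial_iff.2 hne
  have hdim : ringKrullDim (PtRing ξ ⧸ I) = 0 := by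
    have : Ring.KrullDimLE 0 (PtRing ξ ⧸ I) := Ring.krullDimLE_zero_iff.2 fun p hp => by
      have h := hprime (p.comap (Ideal.Quotient.mk I)) inferInstance
        fun z hz => by rw [Ideal.mem_comap, Ideal.Quotient.eq_zero_iff_mem.2 hz]; exact zero_mem _
      let φ : PtRing ξ →+* PtRing ξ ⧸ I := Ideal.Quotient.mk I
      have hsurj : Function.Surjective φ := Ideal.Quotient.mk_surjective
      change p.comap φ = _ at h
      rw [← Ideal.map_comap_of_surjective φ hsurj p] at hp ⊢
      rw [h] at hp ⊢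
      exact (Ideal.map_eq_top_or_isMaximal_of_surjective φ hsurj
        (maximalIdeal.isMaximal _)).resolve_left hp.ne_top
    exact ringKrullDimZero_iff_ringKrullDim_eq_zero.1 inferInstance
  have hlist : Ideal.ofList (List.ofFn fun i => ι (f i)).reverse = I := by
    rw [← hf]
    refine congrArg Ideal.span ?_
    ext z
    simp [List.mem_ofFn, ι]
  have hex : KoszulExt.IsExact fun i => ι (f i) := by
    refine KoszulExt.isExact_of_reverse _ _ (CotTLib.isWeaklyRegular_of_dim _ ?_ ?_)
    · rw [hlist]; exact hne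
    · rw [hlist, hdim, add_zero, List.length_reverse, List.length_ofFn, ringKrullDim_ptRing]
  have hpow : ∃ N : ℕ, maximalIdeal (PtRing ξ) ^ N ≤ I := by
    refine Ideal.exists_pow_le_of_le_radical_of_fg ?_ (IsNoetherian.noetherian _)
    rw [Ideal.radical_eq_sInf]
    exact le_sInf fun p hp => (hprime p hp.2 hp.1).ge
  obtain ⟨z, hz, hzm⟩ : ∃ z ∉ I, ∀ a ∈ maximalIdeal (PtRing ξ), z * a ∈ I := by
    have h0 : Nat.find hpow ≠ 0 := fun h => hne (top_le_iff.1 (by simpa [h] using Nat.find_spec hpow))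
    obtain ⟨N, hN⟩ := Nat.exists_eq_succ_of_ne_zero h0
    have hnot := Nat.find_min hpow (show N < Nat.find hpow by omega)
    obtain ⟨z, hz, hzI⟩ := SetLike.not_le_iff_exists.1 hnot
    refine ⟨z, hzI, fun a ha => Nat.find_spec hpow ?_⟩
    rw [hN, pow_succ]
    exact Ideal.mul_mem_mul hz ha
  have hg : Ideal.span (Set.range fun j => ι (X j - C (ξ j))) ≤ maximalIdeal (PtRing ξ) := by
    refine Ideal.span_le.2 ?_
    rintro _ ⟨j, rfl⟩
    rw [SetLike.mem_coe, ← Localization.AtPrime.map_eq_maximalIdeal]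
    refine Ideal.mem_map_of_mem _ ?_
    simp [ptIdeal]
  have hcR : ∀ i, ι (f i) = ∑ j, (c.map ι) i j * ι (X j - C (ξ j)) := fun i => by
    rw [hc i, map_sum]
    exact Finset.sum_congr rfl fun j _ => map_mul _ _ _
  have hmem := (KoszulExt.mem_colon_iff hex hcR z).1 fun a ha => by rw [hf]; exact hzm a (hg ha)
  rw [hf, ← RingHom.mapMatrix_apply, ← RingHom.map_det, sup_eq_left.2
    ((Ideal.span_singleton_le_iff_mem _).2 (Ideal.mem_map_of_mem ι hdet))] at hmem
  exact hz hmem

end Groth.Agent.Tate
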