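import Groth.Agent.Tate.CI
import Groth.Prelude.Def_RegImm
import Mathlib.RingTheory.LocalRing.ResidueField.Fiber

/-!
# Local equations of a point of a finite scheme with complete intersection fibre
-/

noncomputable section

universe u

open IsLocalRing MvPolynomial TensorProduct

namespace Groth.Agent.Tate

section Map

variable (A : Type u) [CommRing A] {κ : Type u} [Field κ] [Algebra A κ] {n : ℕ} (ξ : Fin n → κ)

/-- `A[X] → κ[X]_ξ`. -/
def ptMap : MvPolynomial (Fin n) A →ₐ[A] PtRing ξ := aeval (ptX ξ)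

lemma ptMap_X (j : Fin n) : ptMap A ξ (X j) = ptX ξ j := aeval_X _ j

lemma ptMap_apply (p : MvPolynomial (Fin n) A) :
    ptMap A ξ p = algebraMap _ (PtRing ξ) (map (algebraMap A κ) p) :=
  AlgHom.congr_fun (φ₁ := ptMap A ξ)
    (φ₂ := (IsScalarTower.toAlgHom A (MvPolynomial (Fin n) κ) (PtRing ξ)).comp (mapAlgHom (Algebra.ofId A κ)))
    (algHom_ext fun j => by simp [ptMap_X, ptX]) p

lemma ptEval_ptMap (p : MvPolynomial (Fin n) A) : ptEval ξ (ptMap A ξ p) = aeval ξ p := by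
  rw [ptMap_apply, ptEval, ptLift_algebraMap, aeval_map_algebraMap]

end Map

section Abstract

variable {κ : Type u} [Field κ] {n m : ℕ} {ξ : Fin n → κ} {η : Fin m → κ}

/-- Two presentations of one local ring, given by coordinates. -/
theorem finrank_genSpace_le_of_inverse (I : Ideal (PtRing ξ)) (I' : Ideal (PtRing η))
    (hI : I ≤ maximalIdeal (PtRing ξ)) (hI' : I' ≤ maximalIdeal (PtRing η))
    (r : Fin m → PtRing η) (hr : I' = Ideal.span (Set.range r))
    (H : Fin n → PtRing η) (hH : ∀ j, ptEval η (H j) = ξ j)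
    (Q : Fin m → PtRing ξ) (hQ : ∀ i, ptEval ξ (Q i) = η i)
    (hαI : ∀ z ∈ I, ptLift ξ (ptEval η) H hH z ∈ I') (hβI : ∀ z ∈ I', ptLift η (ptEval ξ) Q hQ z ∈ I)
    (hβα : ∀ j, ptLift η (ptEval ξ) Q hQ (H j) - ptX ξ j ∈ I)
    (hαβ : ∀ i, ptLift ξ (ptEval η) H hH (Q i) - ptX η i ∈ I') :
    Module.finrank κ (GenSpace I) ≤ n := by
  let α := ptLift ξ (ptEval η) H hH
  let β := ptLift η (ptEval ξ) Q hQ
  let π : PtRing ξ →ₐ[κ] PtRing ξ ⧸ I := Ideal.Quotient.mkₐ κ I
  let π' : PtRing η →ₐ[κ] PtRing η ⧸ I' := Ideal.Quotient.mkₐ κ I'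
  have : IsLocalHom α.toRingHom :=
    isLocalHom_of_eval ξ (ptEval η) α fun j => by rw [ptLift_X]; exact hH j
  have : IsLocalHom β.toRingHom :=
    isLocalHom_of_eval η (ptEval ξ) β fun i => by rw [ptLift_X]; exact hQ i
  have h1 : ∀ z, π (β (α z)) = π z := fun z => by
    refine AlgHom.congr_fun (φ₁ := π.comp (β.comp α)) (φ₂ := π) (ptRing_hom_ext (D := PtRing ξ ⧸ I) ξ fun j => ?_) z
    rw [AlgHom.comp_apply, AlgHom.comp_apply, ptLift_X]
    exact Ideal.Quotient.eq.2 (hβα j)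
  have h2 : ∀ z, π' (α (β z)) = π' z := fun z => by
    refine AlgHom.congr_fun (φ₁ := π'.comp (α.comp β)) (φ₂ := π') (ptRing_hom_ext (D := PtRing η ⧸ I') η fun i => ?_) z
    rw [AlgHom.comp_apply, AlgHom.comp_apply, ptLift_X]
    exact Ideal.Quotient.eq.2 (hαβ i)
  have hker : RingHom.ker π = I := Ideal.mk_ker
  have hker₂ : RingHom.ker (π.comp β) = I' := by
    refine le_antisymm (fun z hz => Ideal.Quotient.eq_zero_iff_mem.1 ?_) fun z hz =>
      Ideal.Quotient.eq_zero_iff_mem.2 (hβI z hz)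
    have h : β z ∈ I := Ideal.Quotient.eq_zero_iff_mem.1 hz
    change π' z = 0
    rw [← h2]
    exact Ideal.Quotient.eq_zero_iff_mem.2 (hαI _ h)
  have hcount := finrank_genSpace_add_le (D := PtRing ξ ⧸ I) (residue_surjective ξ) (residue_surjective η) π (π.comp β) α β
    (fun z => (AlgHom.comp_apply π β (α z)).trans (h1 z)) (fun z => (AlgHom.comp_apply π β z).symm) (hker.le.trans hI) (hker₂.le.trans hI')
  rw [finrank_cotangent, finrank_cotangent, hker, hker₂] at hcount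
  have := finrank_genSpace_le (residue_surjective η) I' r hr
  omega

end Abstract

section Main

variable {A B k κ : Type u} [CommRing A] [CommRing B] [Algebra A B] [Field k] [Field κ]
  [Algebra A k] [Algebra k κ] [Algebra A κ] [IsScalarTower A k κ] {n m : ℕ}

/-- The inclusion of `B` in a localized fibre. -/
def toFiberLoc (g : k ⊗[A] B) : B →ₐ[A] Localization.Away g :=
  (IsScalarTower.toAlgHom A (k ⊗[A] B) (Localization.Away g)).comp Algebra.TensorProduct.includeRight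

/-- A point with values in a local algebra extends to the localized fibre. -/
lemma exists_fiber_lift {D : Type u} [CommRing D] [Algebra κ D] [Algebra k D] [Algebra A D] [IsScalarTower A k D]
    [IsScalarTower k κ D] [IsScalarTower A κ D] [IsLocalRing D]
    (εD : D →ₐ[κ] κ) (φ₀ : MvPolynomial (Fin n) A →ₐ[A] B) (hφ₀ : Function.Surjective φ₀)
    (pt : B →ₐ[A] κ) (aD : MvPolynomial (Fin n) A →ₐ[A] D) (hkD : ∀ p, φ₀ p = 0 → aD p = 0)
    (hev : ∀ p, εD (aD p) = pt (φ₀ p)) (g : k ⊗[A] B)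
    (hg : Algebra.TensorProduct.lift (Algebra.ofId k κ) pt (fun _ _ => Commute.all _ _) g ≠ 0) :
    ∃ Φ : Localization.Away g →ₐ[k] D, ∀ p, Φ (toFiberLoc g (φ₀ p)) = aD p := by
  let bD : B →ₐ[A] D := AlgHom.liftOfSurjective φ₀ hφ₀ aD fun p hp => hkD p hp
  have hbD : ∀ p, bD (φ₀ p) = aD p := AlgHom.liftOfSurjective_apply φ₀ hφ₀ aD fun p hp => hkD p hp
  let cD : k ⊗[A] B →ₐ[k] D := Algebra.TensorProduct.lift (Algebra.ofId k D) bD fun _ _ => Commute.all _ _
  have hcD : ∀ b, cD (1 ⊗ₜ[A] b) = bD b := fun b => by simp [cD]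
  have hgD : IsUnit (cD g) := by
    refine isUnit_of_ne_zero εD ?_
    have h : (εD.restrictScalars k).comp cD =
        Algebra.TensorProduct.lift (Algebra.ofId k κ) pt (fun _ _ => Commute.all _ _) := by
      refine Algebra.TensorProduct.ext (Subsingleton.elim _ _) (AlgHom.ext fun b => ?_)
      obtain ⟨p, rfl⟩ := hφ₀ b
      simp only [AlgHom.comp_apply, AlgHom.coe_restrictScalars', Algebra.TensorProduct.includeRight_apply, hcD,
        hbD, Algebra.TensorProduct.lift_tmul, map_one, one_mul]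
      exact hev p
    rw [← h] at hg
    exact hg
  refine ⟨IsLocalization.liftAlgHom (M := Submonoid.powers g) (f := cD) (by
    rintro ⟨_, N, rfl⟩; rw [map_pow]; exact hgD.pow N), fun p => ?_⟩
  refine (IsLocalization.lift_eq _ (1 ⊗ₜ[A] φ₀ p)).trans ?_
  exact (hcD _).trans (hbD p)

/-- Maps out of the localized fibre are determined by the generators. -/
lemma fiberLoc_hom_ext {E : Type u} [CommRing E] [Algebra k E] [Algebra A E] [IsScalarTower A k E]
    (φ₀ : MvPolynomial (Fin n) A →ₐ[A] B) (hφ₀ : Function.Surjective φ₀) (g : k ⊗[A] B)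
    (f f' : Localization.Away g →ₐ[k] E) (h : ∀ j, f (toFiberLoc g (φ₀ (X j))) = f' (toFiberLoc g (φ₀ (X j)))) :
    f = f' := by
  refine IsLocalization.algHom_ext (Submonoid.powers g) ?_
  refine Algebra.TensorProduct.ext (Subsingleton.elim _ _) (AlgHom.ext fun b => ?_)
  obtain ⟨p, rfl⟩ := hφ₀ b
  exact AlgHom.congr_fun (φ₁ := ((f.restrictScalars A).comp (toFiberLoc g)).comp φ₀)
    (φ₂ := ((f'.restrictScalars A).comp (toFiberLoc g)).comp φ₀) (algHom_ext h) p

/-- A map out of a presented algebra. -/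
lemma exists_lift_presentation {C E : Type u} [CommRing C] [Algebra k C] [CommRing E] [Algebra k E]
    (φ : MvPolynomial (Fin m) k →ₐ[k] C) (hφ : Function.Surjective φ)
    (r : Fin m → MvPolynomial (Fin m) k) (hr : RingHom.ker φ.toRingHom = Ideal.span (Set.range r))
    (a : MvPolynomial (Fin m) k →ₐ[k] E) (ha : ∀ i, a (r i) = 0) :
    ∃ Ψ : C →ₐ[k] E, ∀ p, Ψ (φ p) = a p := by
  have h : RingHom.ker φ.toRingHom ≤ RingHom.ker a.toRingHom := by
    rw [hr, Ideal.span_le]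
    rintro _ ⟨i, rfl⟩
    exact ha i
  exact ⟨AlgHom.liftOfSurjective φ hφ a h, AlgHom.liftOfSurjective_apply φ hφ a h⟩

/-- At a `κ`-point lying in a global complete intersection piece `C_g` (with `m` equations in `m` variables) of
the fibre, the kernel of a presentation with `n` variables is generated by `n` elements. -/
theorem exists_local_generators (φ₀ : MvPolynomial (Fin n) A →ₐ[A] B) (hφ₀ : Function.Surjective φ₀)
    (pt : B →ₐ[A] κ) (ξ : Fin n → κ) (hξ : ∀ j, pt (φ₀ (X j)) = ξ j) (g : k ⊗[A] B)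
    (hg : Algebra.TensorProduct.lift (Algebra.ofId k κ) pt (fun _ _ => Commute.all _ _) g ≠ 0)
    (φ : MvPolynomial (Fin m) k →ₐ[k] Localization.Away g) (hφ : Function.Surjective φ)
    (r : Fin m → MvPolynomial (Fin m) k) (hr : RingHom.ker φ.toRingHom = Ideal.span (Set.range r)) :
    ∃ f : Fin n → MvPolynomial (Fin n) A, (∀ i, φ₀ (f i) = 0) ∧
      Ideal.span (Set.range fun i => ptMap A ξ (f i)) = (RingHom.ker φ₀.toRingHom).map (ptMap A ξ).toRingHom := by
  classical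
  let I : Ideal (PtRing ξ) := (RingHom.ker φ₀.toRingHom).map (ptMap A ξ).toRingHom
  have hev : ∀ p, ptEval ξ (ptMap A ξ p) = pt (φ₀ p) := fun p => by
    rw [ptEval_ptMap]
    exact AlgHom.congr_fun (φ₁ := aeval ξ) (φ₂ := pt.comp φ₀) (algHom_ext fun j => by simp [hξ]) p
  have hIle : I ≤ maximalIdeal (PtRing ξ) := by
    rw [← ker_ptEval]
    refine Ideal.map_le_iff_le_comap.2 fun p hp => ?_
    change ptEval ξ (ptMap A ξ p) = 0
    rw [hev, show φ₀ p = 0 from hp, map_zero]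
  let πD : PtRing ξ →ₐ[κ] PtRing ξ ⧸ I := Ideal.Quotient.mkₐ κ I
  have : Nontrivial (PtRing ξ ⧸ I) := Ideal.Quotient.nontrivial_iff.2 fun h =>
    (maximalIdeal.isMaximal (PtRing ξ)).ne_top (top_le_iff.1 (h ▸ hIle))
  have : IsLocalRing (PtRing ξ ⧸ I) :=
    IsLocalRing.of_surjective' (Ideal.Quotient.mk I) Ideal.Quotient.mk_surjective
  let εD : (PtRing ξ ⧸ I) →ₐ[κ] κ := Ideal.Quotient.liftₐ I (ptEval ξ) fun z hz => by
    rw [← RingHom.mem_ker, ker_ptEval]; exact hIle hz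
  let aD : MvPolynomial (Fin n) A →ₐ[A] PtRing ξ ⧸ I := (πD.restrictScalars A).comp (ptMap A ξ)
  have hkD : ∀ p, φ₀ p = 0 → aD p = 0 := fun p hp =>
    Ideal.Quotient.eq_zero_iff_mem.2 (Ideal.mem_map_of_mem (ptMap A ξ).toRingHom hp)
  obtain ⟨Φ, hΦι⟩ := exists_fiber_lift (D := PtRing ξ ⧸ I) εD φ₀ hφ₀ pt aD hkD (fun p => hev p) g hg
  choose Q hQ using fun i => Ideal.Quotient.mk_surjective (Φ (φ (X i)))
  let η : Fin m → κ := fun i => ptEval ξ (Q i)
  let β : PtRing η →ₐ[κ] PtRing ξ := ptLift η (ptEval ξ) Q fun _ => rfl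
  have hπβ : ∀ p, πD (β (ptMap k η p)) = Φ (φ p) := fun p => by
    refine AlgHom.congr_fun (φ₁ := ((πD.comp β).restrictScalars k).comp (ptMap k η)) (φ₂ := Φ.comp φ)
      (algHom_ext fun i => ?_) p
    rw [AlgHom.comp_apply, AlgHom.comp_apply, ptMap_X, AlgHom.coe_restrictScalars', AlgHom.comp_apply, ptLift_X]
    exact hQ i
  have hr0 : ∀ i, φ (r i) = 0 := fun i => hr.ge (Ideal.subset_span ⟨i, rfl⟩)
  let I' : Ideal (PtRing η) := Ideal.span (Set.range fun i => ptMap k η (r i))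
  have hεη : ∀ p, ptEval η (ptMap k η p) = εD (Φ (φ p)) := fun p => by
    rw [← hπβ]
    exact (AlgHom.congr_fun (comp_eq_ptEval η (ptEval ξ) β fun i => by rw [ptLift_X]) _).symm
  have hI'le : I' ≤ maximalIdeal (PtRing η) := by
    rw [← ker_ptEval]
    refine Ideal.span_le.2 ?_
    rintro _ ⟨i, rfl⟩
    rw [SetLike.mem_coe, RingHom.mem_ker, hεη, hr0, map_zero, map_zero]
  let π' : PtRing η →ₐ[κ] PtRing η ⧸ I' := Ideal.Quotient.mkₐ κ I'
  let aD' : MvPolynomial (Fin m) k →ₐ[k] PtRing η ⧸ I' := (π'.restrictScalars k).comp (ptMap k η)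
  obtain ⟨Ψ, hΨ⟩ := exists_lift_presentation (E := PtRing η ⧸ I') φ hφ r hr aD'
    fun i => (Ideal.Quotient.eq_zero_iff_mem (I := I')).2 (Ideal.subset_span (Set.mem_range_self i))
  choose P hP using fun j => hφ (toFiberLoc g (φ₀ (X j)))
  have hH : ∀ j, ptEval η (ptMap k η (P j)) = ξ j := fun j => by
    rw [hεη, hP, hΦι, ← hξ]
    exact hev _
  let α : PtRing ξ →ₐ[κ] PtRing η := ptLift ξ (ptEval η) (fun j => ptMap k η (P j)) hH
  have hπα : ∀ p, π' (α (ptMap A ξ p)) = Ψ (toFiberLoc g (φ₀ p)) := fun p => by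
    refine AlgHom.congr_fun (φ₁ := ((π'.comp α).restrictScalars A).comp (ptMap A ξ))
      (φ₂ := ((Ψ.restrictScalars A).comp (toFiberLoc g)).comp φ₀) (algHom_ext fun j => ?_) p
    simp only [AlgHom.comp_apply, AlgHom.coe_restrictScalars', ptMap_X]
    rw [ptLift_X, ← hP j, hΨ]
    rfl
  have hαI : ∀ z ∈ I, α z ∈ I' := by
    have hle : I ≤ I'.comap α.toRingHom := Ideal.map_le_iff_le_comap.2 fun p hp => by
      refine (Ideal.Quotient.eq_zero_iff_mem (I := I')).1 ?_
      change π' (α (ptMap A ξ p)) = 0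
      rw [hπα, show φ₀ p = 0 from hp, map_zero, map_zero]
    exact fun z hz => hle hz
  have hβI : ∀ z ∈ I', β z ∈ I := by
    have hle : I' ≤ I.comap β.toRingHom := Ideal.span_le.2 (by
      rintro _ ⟨i, rfl⟩
      refine (Ideal.Quotient.eq_zero_iff_mem (I := I)).1 ?_
      change πD (β (ptMap k η (r i))) = 0
      rw [hπβ, hr0, map_zero])
    exact fun z hz => hle hz
  let αD : (PtRing ξ ⧸ I) →ₐ[κ] PtRing η ⧸ I' :=
    Ideal.Quotient.liftₐ I (π'.comp α) fun z hz => Ideal.Quotient.eq_zero_iff_mem.2 (hαI z hz)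
  have hΨΦ : (αD.restrictScalars k).comp Φ = Ψ := fiberLoc_hom_ext (E := PtRing η ⧸ I') φ₀ hφ₀ g _ _ fun j => by
    rw [AlgHom.comp_apply, hΦι, ← hπα]
    rfl
  have hβα : ∀ j, β (ptMap k η (P j)) - ptX ξ j ∈ I := fun j => by
    refine Ideal.Quotient.eq.1 ?_
    change πD _ = πD _
    rw [hπβ, hP, hΦι]
    exact congrArg πD (ptMap_X A ξ j)
  have hαβ : ∀ i, α (Q i) - ptX η i ∈ I' := fun i => by
    refine Ideal.Quotient.eq.1 ?_
    have h := AlgHom.congr_fun hΨΦ (φ (X i))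
    rw [AlgHom.comp_apply, ← hQ i, hΨ] at h
    exact h.trans (congrArg π' (ptMap_X k η i))
  have hrank := finrank_genSpace_le_of_inverse I I' hIle hI'le _ rfl _ hH Q (fun _ => rfl) hαI hβI hβα hαβ
  obtain ⟨G, hG, hGI⟩ := exists_generators (residue_surjective ξ) I
    ((ptMap A ξ).toRingHom '' (RingHom.ker φ₀.toRingHom : Set (MvPolynomial (Fin n) A))) rfl hrank
  have hex : ∀ i, ∃ f, φ₀ f = 0 ∧ ptMap A ξ f = G i := fun i => by
    rcases hG i with h | ⟨f, hf, h⟩
    · exact ⟨0, map_zero _, by rw [map_zero, h]⟩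
    · exact ⟨f, hf, h⟩
  choose f hf0 hf using hex
  exact ⟨f, hf0, (congrArg (fun v => Ideal.span (Set.range v)) (funext hf)).trans hGI.symm⟩

end Main

end Groth.Agent.Tate
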