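import Groth.Agent.Tate.Rank
import Groth.Agent.SyntDim.Basic
import Mathlib.Algebra.Module.SpanRankOperations

/-!
# The local ring of affine space at a rational point
-/

noncomputable section

universe u

open IsLocalRing MvPolynomial

namespace Groth.Agent.Tate

variable {κ : Type u} [Field κ] {n : ℕ} (ξ : Fin n → κ)

/-- The ideal of the point `ξ`. -/
def ptIdeal : Ideal (MvPolynomial (Fin n) κ) := RingHom.ker (aeval ξ : MvPolynomial (Fin n) κ →ₐ[κ] κ)

instance : (ptIdeal ξ).IsMaximal :=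
  RingHom.ker_isMaximal_of_surjective _ fun c => ⟨C c, aeval_C ξ c⟩

/-- The local ring at the point `ξ`. -/
abbrev PtRing : Type u := Localization.AtPrime (ptIdeal ξ)

/-- The coordinates in the local ring. -/
def ptX (j : Fin n) : PtRing ξ := algebraMap (MvPolynomial (Fin n) κ) (PtRing ξ) (X j)

section Lift

variable {D : Type u} [CommRing D] [Algebra κ D] [IsLocalRing D] (ε : D →ₐ[κ] κ)

lemma isUnit_of_ne_zero {z : D} (hz : ε z ≠ 0) : IsUnit z := by
  haveI : (RingHom.ker ε).IsMaximal := RingHom.ker_isMaximal_of_surjective _ fun c => ⟨algebraMap κ D c, ε.commutes c⟩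
  refine notMem_maximalIdeal.1 fun h => hz ?_
  rw [← eq_maximalIdeal (R := D) this] at h
  exact h

omit [IsLocalRing D] in
lemma map_ne_zero_of_isUnit {z : D} (hz : IsUnit z) : ε z ≠ 0 := (hz.map ε).ne_zero

variable (v : Fin n → D) (hv : ∀ j, ε (v j) = ξ j)

include hv in
omit [IsLocalRing D] in
lemma aeval_comp : ε.comp (aeval v) = aeval ξ := algHom_ext fun j => by simp [hv]

include hv in
lemma isUnit_aeval (s : (ptIdeal ξ).primeCompl) : IsUnit ((aeval v : MvPolynomial (Fin n) κ →ₐ[κ] D) s) := by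
  refine isUnit_of_ne_zero ε ?_
  rw [← AlgHom.comp_apply, aeval_comp ξ ε v hv]
  exact s.2

/-- Maps out of the local ring at a point. -/
def ptLift : PtRing ξ →ₐ[κ] D :=
  IsLocalization.liftAlgHom (M := (ptIdeal ξ).primeCompl) (f := aeval v) (isUnit_aeval ξ ε v hv)

lemma ptLift_algebraMap (p : MvPolynomial (Fin n) κ) :
    ptLift ξ ε v hv (algebraMap (MvPolynomial (Fin n) κ) (PtRing ξ) p) = aeval v p :=
  IsLocalization.lift_eq (isUnit_aeval ξ ε v hv) p

lemma ptLift_X (j : Fin n) : ptLift ξ ε v hv (ptX ξ j) = v j := by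
  rw [ptX, ptLift_algebraMap, aeval_X]

end Lift

/-- Maps out of the local ring are determined by the coordinates. -/
theorem ptRing_hom_ext {D : Type u} [CommRing D] [Algebra κ D] {f g : PtRing ξ →ₐ[κ] D}
    (h : ∀ j, f (ptX ξ j) = g (ptX ξ j)) : f = g :=
  IsLocalization.algHom_ext (ptIdeal ξ).primeCompl (algHom_ext h)

/-- Evaluation at the point. -/
def ptEval : PtRing ξ →ₐ[κ] κ := ptLift ξ (AlgHom.id κ κ) ξ fun _ => rfl

lemma comp_eq_ptEval {D : Type u} [CommRing D] [Algebra κ D] (ε : D →ₐ[κ] κ) (f : PtRing ξ →ₐ[κ] D)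
    (h : ∀ j, ε (f (ptX ξ j)) = ξ j) : ε.comp f = ptEval ξ :=
  ptRing_hom_ext ξ fun j => by rw [AlgHom.comp_apply, h, ptEval, ptLift_X]

lemma ker_ptEval : RingHom.ker (ptEval ξ) = maximalIdeal (PtRing ξ) :=
  eq_maximalIdeal (RingHom.ker_isMaximal_of_surjective _ fun c => ⟨algebraMap κ _ c, (ptEval ξ).commutes c⟩)

lemma residue_surjective : Function.Surjective ((residue (PtRing ξ)).comp (algebraMap κ (PtRing ξ))) := by
  intro z
  obtain ⟨z, rfl⟩ := IsLocalRing.residue_surjective z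
  refine ⟨ptEval ξ z, Ideal.Quotient.eq.2 ?_⟩
  rw [← ker_ptEval, RingHom.mem_ker, map_sub, AlgHom.commutes]
  exact sub_self _

theorem isLocalHom_of_eval {D : Type u} [CommRing D] [Algebra κ D] (ε : D →ₐ[κ] κ) (f : PtRing ξ →ₐ[κ] D)
    (h : ∀ j, ε (f (ptX ξ j)) = ξ j) : IsLocalHom f.toRingHom :=
  ⟨fun z hz => isUnit_of_ne_zero (ptEval ξ) (by
    rw [← comp_eq_ptEval ξ ε f h]; exact map_ne_zero_of_isUnit ε hz)⟩

lemma ringKrullDim_ptRing : ringKrullDim (PtRing ξ) = (n : ℕ) := by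
  rw [IsLocalization.AtPrime.ringKrullDim_eq_height (ptIdeal ξ),
    Groth.Agent.DimTheory.height_maximal_mvPolynomial κ n (ptIdeal ξ)]
  rfl

lemma finrank_cotangent : Module.finrank κ (CotangentSpace (PtRing ξ)) = n := by
  have hsurj := residue_surjective ξ
  let e : κ ≃ₗ[κ] ResidueField (PtRing ξ) := LinearEquiv.ofBijective (Algebra.linearMap κ _)
    ⟨(algebraMap κ (ResidueField (PtRing ξ))).injective, hsurj⟩
  haveI : IsScalarTower κ (ResidueField (PtRing ξ)) (CotangentSpace (PtRing ξ)) :=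
    IsScalarTower.of_algebraMap_smul fun c x => by
      rw [IsScalarTower.algebraMap_apply κ (PtRing ξ) (ResidueField (PtRing ξ)), IsScalarTower.algebraMap_smul,
        IsScalarTower.algebraMap_smul]
  rw [← Module.finrank_mul_finrank κ (ResidueField (PtRing ξ)) (CotangentSpace (PtRing ξ)), ← e.finrank_eq,
    Module.finrank_self, one_mul, ← spanFinrank_maximalIdeal_eq_finrank_cotangentSpace,
    Groth.Agent.CAlgReg.spanFinrank_eq_of_dim (ringKrullDim_ptRing ξ)]

end Groth.Agent.Tate
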