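import Mathlib.RingTheory.Ideal.Cotangent
import Mathlib.RingTheory.LocalRing.ResidueField.Basic
import Mathlib.LinearAlgebra.FiniteDimensional.Lemmas
import Mathlib.RingTheory.Finiteness.Ideal
import Mathlib.RingTheory.Nakayama

/-!
# Number of generators of the kernels of two presentations of a local ring
-/

noncomputable section

universe u

open IsLocalRing

namespace Groth.Agent.Tate

section Complexes

variable {κ : Type u} [Field κ] {V U V' U' : Type u} [AddCommGroup V] [Module κ V] [AddCommGroup U] [Module κ U]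
  [AddCommGroup V'] [Module κ V'] [AddCommGroup U'] [Module κ U']
  [FiniteDimensional κ V] [FiniteDimensional κ U] [FiniteDimensional κ V'] [FiniteDimensional κ U']

/-- Comparison of two-term complexes related by maps that are inverse up to homotopy on `H`. -/
theorem finrank_le_of_maps (L : V →ₗ[κ] U) (L' : V' →ₗ[κ] U') (aV : V →ₗ[κ] V') (aU : U →ₗ[κ] U')
    (bV : V' →ₗ[κ] V) (bU : U' →ₗ[κ] U) (ha : ∀ v, L' (aV v) = aU (L v)) (hb : ∀ v, L (bV v) = bU (L' v))
    (hU : ∀ u, bU (aU u) - u ∈ LinearMap.range L) (hU' : ∀ u, aU (bU u) - u ∈ LinearMap.range L')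
    (hH : ∀ v, L v = 0 → bV (aV v) = v) :
    Module.finrank κ V + Module.finrank κ U' ≤ Module.finrank κ V' + Module.finrank κ U := by
  have h1 := LinearMap.finrank_range_add_finrank_ker L
  have h2 := LinearMap.finrank_range_add_finrank_ker L'
  have h3 := Submodule.finrank_quotient_add_finrank (LinearMap.range L)
  have h4 := Submodule.finrank_quotient_add_finrank (LinearMap.range L')
  let aH : LinearMap.ker L →ₗ[κ] LinearMap.ker L' :=
    aV.restrict fun v hv => by
      rw [LinearMap.mem_ker] at hv ⊢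
      rw [ha, hv, map_zero]
  have hinj : Function.Injective aH := fun x y hxy => Subtype.ext <| by
    rw [← hH x x.2, ← hH y y.2]
    exact congrArg (fun z : LinearMap.ker L' => bV z) hxy
  have h5 := LinearMap.finrank_le_finrank_of_injective hinj
  let q : (U ⧸ LinearMap.range L) ≃ₗ[κ] (U' ⧸ LinearMap.range L') :=
    LinearEquiv.ofLinearMap
      (Submodule.mapQ _ _ aU fun u ⟨v, hv⟩ => ⟨aV v, by rw [ha, hv]⟩)
      (Submodule.mapQ _ _ bU fun u ⟨v, hv⟩ => ⟨bV v, by rw [hb, hv]⟩)
      (Submodule.linearMap_qext _ <| LinearMap.ext fun u => (Submodule.Quotient.eq _).2 (hU' u))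
      (Submodule.linearMap_qext _ <| LinearMap.ext fun u => (Submodule.Quotient.eq _).2 (hU u))
  have h6 := q.finrank_eq
  omega

end Complexes

section Local

variable {κ R : Type u} [Field κ] [CommRing R] [Algebra κ R] [IsLocalRing R]
  (hres : Function.Surjective ((residue R).comp (algebraMap κ R)))

include hres in
/-- In a module killed by the maximal ideal, scalars may be taken in the coefficient field. -/
lemma exists_smul_eq {M : Type u} [AddCommGroup M] [Module R M] [Module κ M] [IsScalarTower κ R M]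
    (hM : ∀ r ∈ maximalIdeal R, ∀ m : M, r • m = 0) (r : R) : ∃ c : κ, ∀ m : M, r • m = c • m := by
  obtain ⟨c, hc⟩ := hres (residue R r)
  refine ⟨c, fun m => ?_⟩
  rw [← IsScalarTower.algebraMap_smul R c m, ← sub_eq_zero, ← sub_smul]
  exact hM _ (Ideal.Quotient.eq.1 hc.symm) _

include hres in
lemma span_eq {M : Type u} [AddCommGroup M] [Module R M] [Module κ M] [IsScalarTower κ R M]
    (hM : ∀ r ∈ maximalIdeal R, ∀ m : M, r • m = 0) (s : Set M) :
    (Submodule.span R s : Set M) = Submodule.span κ s := by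
  refine Set.Subset.antisymm ?_ (Submodule.span_le_restrictScalars κ R s)
  intro x hx
  induction hx using Submodule.span_induction with
  | mem y hy => exact Submodule.subset_span hy
  | zero => exact zero_mem _
  | add a b _ _ ha hb => exact add_mem ha hb
  | smul r a _ ha =>
    obtain ⟨c, hc⟩ := exists_smul_eq hres hM r
    rw [hc a]
    exact Submodule.smul_mem _ c ha

/-- The space `I / mI`. -/
abbrev GenSpace (I : Ideal R) : Type u := I ⧸ (maximalIdeal R • ⊤ : Submodule R I)

lemma smul_genSpace (I : Ideal R) {r : R} (hr : r ∈ maximalIdeal R) (v : GenSpace I) : r • v = 0 := by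
  obtain ⟨v, rfl⟩ := Submodule.Quotient.mk_surjective _ v
  rw [← Submodule.Quotient.mk_smul, Submodule.Quotient.mk_eq_zero]
  exact Submodule.smul_mem_smul hr trivial

lemma smul_cotangentSpace {r : R} (hr : r ∈ maximalIdeal R) (v : CotangentSpace R) : r • v = 0 := by
  obtain ⟨v, rfl⟩ := (maximalIdeal R).toCotangent_surjective v
  rw [← map_smul, Ideal.toCotangent_eq_zero, pow_two]
  exact Ideal.mul_mem_mul hr v.2

include hres in
lemma finiteDimensional_genSpace [IsNoetherianRing R] (I : Ideal R) : FiniteDimensional κ (GenSpace I) := by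
  obtain ⟨s, hs⟩ := (inferInstance : Module.Finite R (GenSpace I)).fg_top
  exact ⟨⟨s, SetLike.coe_injective ((span_eq hres (fun r hr => smul_genSpace I hr) _).symm.trans (by rw [hs]; rfl))⟩⟩

include hres in
lemma finiteDimensional_cotangent [IsNoetherianRing R] : FiniteDimensional κ (CotangentSpace R) := by
  obtain ⟨s, hs⟩ := (Module.Finite.of_surjective _ (maximalIdeal R).toCotangent_surjective :
    Module.Finite R (CotangentSpace R)).fg_top
  exact ⟨⟨s, SetLike.coe_injective ((span_eq hres (fun r hr => smul_cotangentSpace hr) _).symm.trans (by rw [hs]; rfl))⟩⟩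

lemma span_mk_eq_top (I : Ideal R) {ι : Type*} (f : ι → R) (h : ∀ i, f i ∈ I)
    (hI : I ≤ Ideal.span (Set.range f)) :
    Submodule.span R (Set.range fun i => (Submodule.Quotient.mk ⟨f i, h i⟩ : GenSpace I)) = ⊤ := by
  have hsp : (⊤ : Submodule R I) ≤ Submodule.span R (Set.range fun i => (⟨f i, h i⟩ : I)) := by
    rw [← Submodule.map_le_map_iff_of_injective I.injective_subtype, Submodule.map_top, Submodule.range_subtype,
      Submodule.map_span, ← Set.range_comp]
    exact hI
  rw [show (fun i => (Submodule.Quotient.mk ⟨f i, h i⟩ : GenSpace I)) =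
      (Submodule.mkQ _) ∘ fun i => (⟨f i, h i⟩ : I) from rfl, Set.range_comp, ← Submodule.map_span, top_le_iff.1 hsp,
    Submodule.map_top, Submodule.range_mkQ]

include hres in
lemma finrank_genSpace_le (I : Ideal R) {n : ℕ} (f : Fin n → R) (hf : I = Ideal.span (Set.range f)) :
    Module.finrank κ (GenSpace I) ≤ n := by
  classical
  let g : Fin n → GenSpace I := fun i => Submodule.Quotient.mk ⟨f i, hf ▸ Ideal.subset_span ⟨i, rfl⟩⟩
  have htop : Submodule.span R (Set.range g) = ⊤ := span_mk_eq_top I f _ hf.le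
  have htop' : Submodule.span κ (Set.range g) = ⊤ :=
    SetLike.coe_injective ((span_eq hres (fun r hr => smul_genSpace I hr) _).symm.trans (by rw [htop]; rfl))
  have h := finrank_range_le_card (R := κ) g
  rw [Set.finrank, htop', finrank_top, Fintype.card_fin] at h
  exact h

include hres in
/-- An ideal is generated by as many elements of any generating set as `dim I/mI`. -/
theorem exists_generators [IsNoetherianRing R] (I : Ideal R) (s : Set R) (hs : I = Ideal.span s) {n : ℕ}
    (hn : Module.finrank κ (GenSpace I) ≤ n) :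
    ∃ g : Fin n → R, (∀ i, g i = 0 ∨ g i ∈ s) ∧ I = Ideal.span (Set.range g) := by
  classical
  haveI := finiteDimensional_genSpace hres I
  have hsI : s ⊆ I := hs ▸ Ideal.subset_span
  let mk : s → GenSpace I := fun z => Submodule.Quotient.mk ⟨z.1, hsI z.2⟩
  have htop : Submodule.span R (Set.range mk) = ⊤ :=
    span_mk_eq_top I (fun z : s => z.1) (fun z => hsI z.2) (by rw [Subtype.range_coe_subtype]; exact hs.le)
  have htop' : Submodule.span κ (Set.range mk) = ⊤ :=
    SetLike.coe_injective ((span_eq hres (fun r hr => smul_genSpace I hr) _).symm.trans (by rw [htop]; rfl))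
  obtain ⟨t, ht, htspan, -⟩ := Submodule.exists_fun_fin_finrank_span_eq κ (Set.range mk)
  replace htspan := htspan.trans htop'
  have hd : Module.finrank κ (Submodule.span κ (Set.range mk)) ≤ n := by rw [htop', finrank_top]; exact hn
  choose z hz using ht
  let g : Fin n → R := fun i => if h : (i : ℕ) < Module.finrank κ (Submodule.span κ (Set.range mk)) then
    (z ⟨i, h⟩).1 else 0
  refine ⟨g, fun i => ?_, ?_⟩
  · dsimp only [g]
    split_ifs with h
    · exact Or.inr (z _).2
    · exact Or.inl rfl
  · have hgI : ∀ i, g i ∈ I := fun i => by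
      dsimp only [g]
      split_ifs with h
      · exact hsI (z _).2
      · exact zero_mem _
    refine le_antisymm ?_ (Ideal.span_le.2 (by rintro _ ⟨i, rfl⟩; exact hgI i))
    refine Submodule.le_of_le_smul_of_le_jacobson_bot (IsNoetherian.noetherian I)
      (maximalIdeal_le_jacobson ⊥) fun x hx => ?_
    have hmem : Submodule.Quotient.mk ⟨x, hx⟩ ∈ Submodule.span R
        (Set.range fun i => (Submodule.Quotient.mk ⟨g i, hgI i⟩ : GenSpace I)) := by
      refine Submodule.span_le_restrictScalars κ R _ (Submodule.span_mono ?_ (htspan.ge trivial))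
      rintro _ ⟨i, rfl⟩
      refine ⟨⟨i, lt_of_lt_of_le i.2 hd⟩, ?_⟩
      rw [← hz i]
      exact congrArg Submodule.Quotient.mk (Subtype.ext (dif_pos i.2))
    obtain ⟨c, hc⟩ := (Submodule.mem_span_range_iff_exists_fun R).1 hmem
    simp only [← Submodule.mkQ_apply, ← map_smul, ← map_sum] at hc
    have h' := (Submodule.Quotient.eq _).1 hc.symm
    have h2 := Submodule.mem_map_of_mem (f := I.subtype) h'
    rw [Submodule.map_smul'', Submodule.map_top, Submodule.range_subtype] at h2
    simp only [map_sub, map_sum, map_smul, Submodule.subtype_apply] at h2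
    refine Submodule.mem_sup.2 ⟨∑ i, c i • g i, Ideal.sum_mem _ fun i _ =>
      Ideal.mul_mem_left _ (c i) (Ideal.subset_span ⟨i, rfl⟩), _, h2, ?_⟩
    simp

end Local

section Compare

variable {κ R R' D : Type u} [Field κ] [CommRing R] [Algebra κ R] [IsLocalRing R] [IsNoetherianRing R]
  [CommRing R'] [Algebra κ R'] [IsLocalRing R'] [IsNoetherianRing R'] [CommRing D] [Algebra κ D]

/-- The map `I/mI → m/m²`. -/
def toCot {I : Ideal R} (hI : I ≤ maximalIdeal R) : GenSpace I →ₗ[R] CotangentSpace R :=
  Submodule.liftQ _ ((maximalIdeal R).toCotangent ∘ₗ Submodule.inclusion hI) fun x hx => by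
    refine Submodule.smul_induction_on hx (fun r hr y _ => ?_) fun a b ha hb => add_mem ha hb
    rw [LinearMap.mem_ker, map_smul]
    exact smul_cotangentSpace hr _

omit [IsNoetherianRing R] [IsNoetherianRing R'] in
lemma map_mem_smul_top (α : R →ₐ[κ] R') [IsLocalHom α.toRingHom] (I : Ideal R) (I' : Ideal R')
    (hα : ∀ x ∈ I, α x ∈ I') {z : I} (hz : z ∈ (maximalIdeal R • ⊤ : Submodule R I)) :
    (⟨α z, hα z z.2⟩ : I') ∈ (maximalIdeal R' • ⊤ : Submodule R' I') := by
  refine Submodule.smul_induction_on (p := fun z : I => (⟨α (z : R), hα z z.2⟩ : I') ∈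
    (maximalIdeal R' • ⊤ : Submodule R' I')) hz (fun r hr y _ => ?_) fun a b ha hb => ?_
  · rw [show (⟨α (r • y : I), hα _ (r • y).2⟩ : I') = α r • ⟨α y, hα y y.2⟩ from Subtype.ext (map_mul α _ _)]
    exact Submodule.smul_mem_smul (map_nonunit α.toRingHom r hr) trivial
  · rw [show (⟨α (a + b : I), hα _ (a + b).2⟩ : I') = ⟨α a, hα a a.2⟩ + ⟨α b, hα b b.2⟩ from
      Subtype.ext (map_add α _ _)]
    exact add_mem ha hb

/-- The map induced on `I/mI`. -/
def genMap (α : R →ₐ[κ] R') [IsLocalHom α.toRingHom] (I : Ideal R) (I' : Ideal R') (hα : ∀ x ∈ I, α x ∈ I') :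
    GenSpace I →ₗ[κ] GenSpace I' where
  toFun := Quotient.lift (fun x : I => (Submodule.Quotient.mk ⟨α x, hα x x.2⟩ : GenSpace I')) fun x y h => by
    refine (Submodule.Quotient.eq _).2 ?_
    rw [show (⟨α x, hα x x.2⟩ - ⟨α y, hα y y.2⟩ : I') = ⟨α (x - y : I), hα _ (x - y).2⟩ from
      Subtype.ext (map_sub α _ _).symm]
    exact map_mem_smul_top α I I' hα ((Submodule.Quotient.eq _).1 (Quotient.sound h))
  map_add' x y := by
    obtain ⟨x, rfl⟩ := Submodule.Quotient.mk_surjective _ x
    obtain ⟨y, rfl⟩ := Submodule.Quotient.mk_surjective _ y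
    exact congrArg Submodule.Quotient.mk (Subtype.ext (map_add α _ _))
  map_smul' c x := by
    obtain ⟨x, rfl⟩ := Submodule.Quotient.mk_surjective _ x
    refine congrArg Submodule.Quotient.mk (Subtype.ext ?_)
    exact map_smul α c (x : R)

omit [IsNoetherianRing R] [IsNoetherianRing R'] in
lemma genMap_mk (α : R →ₐ[κ] R') [IsLocalHom α.toRingHom] (I : Ideal R) (I' : Ideal R') (hα : ∀ x ∈ I, α x ∈ I')
    (x : I) : genMap α I I' hα (Submodule.Quotient.mk x) = Submodule.Quotient.mk ⟨α x, hα x x.2⟩ := rfl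

omit [IsNoetherianRing R] [IsNoetherianRing R'] in
lemma le_comap_maximal (α : R →ₐ[κ] R') [IsLocalHom α.toRingHom] :
    maximalIdeal R ≤ (maximalIdeal R').comap α := fun x hx => map_nonunit α.toRingHom x hx

/-- The map induced on `m/m²`. -/
def cotMap (α : R →ₐ[κ] R') [IsLocalHom α.toRingHom] : CotangentSpace R →ₗ[κ] CotangentSpace R' :=
  (maximalIdeal R).mapCotangent (maximalIdeal R') α (le_comap_maximal α)

omit [IsNoetherianRing R] [IsNoetherianRing R'] in
lemma cotMap_toCotangent (α : R →ₐ[κ] R') [IsLocalHom α.toRingHom] (x : maximalIdeal R) :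
    cotMap α ((maximalIdeal R).toCotangent x) =
      (maximalIdeal R').toCotangent ⟨α x, le_comap_maximal α x.2⟩ :=
  Ideal.mapCotangent_toCotangent _ _ α (le_comap_maximal α) x

omit [IsNoetherianRing R] in
lemma toCot_mk {I : Ideal R} (hI : I ≤ maximalIdeal R) (x : I) :
    toCot hI (Submodule.Quotient.mk x) = (maximalIdeal R).toCotangent ⟨x, hI x.2⟩ := rfl

omit [IsNoetherianRing R] [IsNoetherianRing R'] in
lemma toCot_genMap (α : R →ₐ[κ] R') [IsLocalHom α.toRingHom] (I : Ideal R) (I' : Ideal R') (hα : ∀ x ∈ I, α x ∈ I')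
    (hI : I ≤ maximalIdeal R) (hI' : I' ≤ maximalIdeal R') (v : GenSpace I) :
    toCot hI' (genMap α I I' hα v) = cotMap α (toCot hI v) := by
  obtain ⟨v, rfl⟩ := Submodule.Quotient.mk_surjective _ v
  rw [genMap_mk, toCot_mk, toCot_mk, cotMap_toCotangent]

omit [IsNoetherianRing R] [IsNoetherianRing R'] in
lemma cotMap_sub_mem (α : R →ₐ[κ] R') (β : R' →ₐ[κ] R) [IsLocalHom α.toRingHom] [IsLocalHom β.toRingHom]
    (I : Ideal R) (hI : I ≤ maximalIdeal R) (h : ∀ x, β (α x) - x ∈ I) (u : CotangentSpace R) :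
    cotMap β (cotMap α u) - u ∈ LinearMap.range ((toCot hI).restrictScalars κ) := by
  obtain ⟨u, rfl⟩ := (maximalIdeal R).toCotangent_surjective u
  refine ⟨Submodule.Quotient.mk ⟨_, h u⟩, ?_⟩
  rw [cotMap_toCotangent, cotMap_toCotangent, ← map_sub]
  rfl

omit [IsNoetherianRing R] [IsNoetherianRing R'] in
lemma genMap_eq (α : R →ₐ[κ] R') (β : R' →ₐ[κ] R) [IsLocalHom α.toRingHom] [IsLocalHom β.toRingHom]
    (I : Ideal R) (I' : Ideal R') (ha : ∀ x ∈ I, α x ∈ I') (hb : ∀ x ∈ I', β x ∈ I) (hI : I ≤ maximalIdeal R)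
    (h : ∀ x, β (α x) - x ∈ I) (v : GenSpace I) (hv : toCot hI v = 0) :
    genMap β I' I hb (genMap α I I' ha v) = v := by
  obtain ⟨x, rfl⟩ := Submodule.Quotient.mk_surjective _ v
  rw [toCot_mk, Ideal.toCotangent_eq_zero, pow_two] at hv
  rw [genMap_mk, genMap_mk, Submodule.Quotient.eq]
  have key : β (α (x : R)) - x ∈ maximalIdeal R • I := by
    rw [smul_eq_mul]
    refine Submodule.mul_induction_on hv (fun a ha' b hb' => ?_) fun a b ha' hb' => ?_
    · rw [map_mul, map_mul,
        show β (α a) * β (α b) - a * b = β (α b) * (β (α a) - a) + a * (β (α b) - b) by ring]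
      exact add_mem (Ideal.mul_mem_mul (le_comap_maximal β (le_comap_maximal α hb')) (h a))
        (Ideal.mul_mem_mul ha' (h b))
    · rw [map_add, map_add,
        show β (α a) + β (α b) - (a + b) = (β (α a) - a) + (β (α b) - b) by ring]
      exact add_mem ha' hb'
  rw [show maximalIdeal R • I = Submodule.map I.subtype (maximalIdeal R • ⊤) by
    rw [Submodule.map_smul'', Submodule.map_top, Submodule.range_subtype]] at key
  obtain ⟨z, hz, hzeq⟩ := key
  rwa [show (⟨β (α x), hb _ (ha _ x.2)⟩ - x : I) = z from Subtype.ext hzeq.symm]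

/-- Two presentations of one local algebra by local algebras with residue field `κ`. -/
theorem finrank_genSpace_add_le (hres : Function.Surjective ((residue R).comp (algebraMap κ R)))
    (hres' : Function.Surjective ((residue R').comp (algebraMap κ R')))
    (π : R →ₐ[κ] D) (π' : R' →ₐ[κ] D) (α : R →ₐ[κ] R') (β : R' →ₐ[κ] R)
    [IsLocalHom α.toRingHom] [IsLocalHom β.toRingHom]
    (hα : ∀ x, π' (α x) = π x) (hβ : ∀ x, π (β x) = π' x)
    (hI : RingHom.ker π ≤ maximalIdeal R) (hI' : RingHom.ker π' ≤ maximalIdeal R') :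
    Module.finrank κ (GenSpace (RingHom.ker π)) + Module.finrank κ (CotangentSpace R') ≤
      Module.finrank κ (GenSpace (RingHom.ker π')) + Module.finrank κ (CotangentSpace R) := by
  have := finiteDimensional_genSpace hres (RingHom.ker π)
  have := finiteDimensional_genSpace hres' (RingHom.ker π')
  have := finiteDimensional_cotangent (R := R) hres
  have := finiteDimensional_cotangent (R := R') hres'
  have ha : ∀ x ∈ RingHom.ker π, α x ∈ RingHom.ker π' := fun x hx => by
    rw [RingHom.mem_ker] at hx ⊢; rw [hα, hx]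
  have hb : ∀ x ∈ RingHom.ker π', β x ∈ RingHom.ker π := fun x hx => by
    rw [RingHom.mem_ker] at hx ⊢; rw [hβ, hx]
  have hba : ∀ x, β (α x) - x ∈ RingHom.ker π := fun x => by
    rw [RingHom.mem_ker, map_sub, hβ, hα, sub_self]
  have hab : ∀ x, α (β x) - x ∈ RingHom.ker π' := fun x => by
    rw [RingHom.mem_ker, map_sub, hα, hβ, sub_self]
  exact finrank_le_of_maps ((toCot hI).restrictScalars κ) ((toCot hI').restrictScalars κ)
    (genMap α _ _ ha) (cotMap α) (genMap β _ _ hb) (cotMap β)
    (toCot_genMap α _ _ ha hI hI') (toCot_genMap β _ _ hb hI' hI)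
    (cotMap_sub_mem α β _ hI hba) (cotMap_sub_mem β α _ hI' hab)
    (genMap_eq α β _ _ ha hb hI hba)

end Compare

end Groth.Agent.Tate
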